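import Mathlib.RepresentationTheory.Character
import Mathlib.RepresentationTheory.Invariants
import Mathlib.Analysis.Fourier.FiniteAbelian.PontryaginDuality
import Mathlib.LinearAlgebra.Trace

/-!
# Isotypic projections for an abelian group acting on a complex space
-/

set_option autoImplicit false

namespace Cfsg.Lib.Linear.MinDegree

open Module

variable {V : Type*} [AddCommGroup V] [Module ℂ V]

theorem sum_char_eq_finrank_invariants [FiniteDimensional ℂ V] {G : Type*} [Group G] [Fintype G]
    (ρ : Representation ℂ G V) : (Nat.card G : ℂ)⁻¹ * ∑ g : G, ρ.character g = finrank ℂ ρ.invariants := by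
  have : Invertible (Nat.card G : ℂ) := invertibleOfNonzero (Nat.cast_ne_zero.2 Nat.card_pos.ne')
  have : Invertible (Fintype.card G : ℂ) := by rwa [Fintype.card_eq_nat_card]
  rw [← (Representation.isProj_averageMap ρ).trace]
  simp [Representation.character, Representation.averageMap, GroupAlgebra.average, map_sum]

theorem exists_nat_trace [FiniteDimensional ℂ V] {f : Module.End ℂ V} (hf : IsIdempotentElem f) :
    ∃ k : ℕ, LinearMap.trace ℂ V f = k :=
  ⟨_, ((LinearMap.isProj_range_iff_isIdempotentElem f).2 hf).trace⟩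

variable {W : Type*} [AddCommGroup W] [Fintype W]
variable (R : Multiplicative W →* Module.End ℂ V)

/-- The projection on the isotypic part of an additive character. -/
noncomputable def proj (θ : AddChar W ℂ) : Module.End ℂ V :=
  (Fintype.card W : ℂ)⁻¹ • ∑ a, θ (-a) • R (Multiplicative.ofAdd a)

theorem cardW_ne_zero : (Fintype.card W : ℂ) ≠ 0 := Nat.cast_ne_zero.2 Fintype.card_ne_zero

theorem R_mul_proj (θ : AddChar W ℂ) (b : W) :
    R (Multiplicative.ofAdd b) * proj R θ = θ b • proj R θ := by
  simp only [proj, mul_smul_comm, Finset.mul_sum, ← map_mul, ← ofAdd_add]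
  rw [smul_comm, Finset.smul_sum (r := θ b)]
  congr 1
  refine Fintype.sum_equiv (Equiv.addLeft b) _ _ fun a => ?_
  rw [Equiv.coe_addLeft, smul_smul, neg_add, AddChar.map_add_eq_mul, ← mul_assoc, ← AddChar.map_add_eq_mul,
    add_neg_cancel, AddChar.map_zero_eq_one, one_mul]

theorem proj_mul_R (θ : AddChar W ℂ) (b : W) :
    proj R θ * R (Multiplicative.ofAdd b) = θ b • proj R θ := by
  rw [← R_mul_proj R θ b]
  simp only [proj, mul_smul_comm, smul_mul_assoc, Finset.mul_sum, Finset.sum_mul, ← map_mul, mul_comm]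

theorem sum_proj : ∑ θ : AddChar W ℂ, proj R θ = 1 := by
  classical
  simp only [proj, ← Finset.smul_sum]
  rw [Finset.sum_comm]
  simp only [← Finset.sum_smul, AddChar.sum_apply_eq_ite, neg_eq_zero, ite_smul, zero_smul]
  rw [Finset.sum_ite_eq' Finset.univ (0 : W), if_pos (Finset.mem_univ _), smul_smul,
    inv_mul_cancel₀ cardW_ne_zero, one_smul, ofAdd_zero, map_one]

theorem proj_mul_self (θ : AddChar W ℂ) : proj R θ * proj R θ = proj R θ := by
  conv_lhs => lhs; rw [proj]
  rw [smul_mul_assoc, Finset.sum_mul]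
  simp only [smul_mul_assoc, R_mul_proj, smul_smul, ← AddChar.map_add_eq_mul, neg_add_cancel, AddChar.map_zero_eq_one,
    one_smul, Finset.sum_const, Finset.card_univ, ← Nat.cast_smul_eq_nsmul ℂ, inv_mul_cancel₀ cardW_ne_zero]

theorem trace_proj (θ : AddChar W ℂ) :
    LinearMap.trace ℂ V (proj R θ) =
      (Fintype.card W : ℂ)⁻¹ * ∑ a, θ (-a) * LinearMap.trace ℂ V (R (Multiplicative.ofAdd a)) := by
  simp [proj, map_smul, map_sum]

/-- Conjugation permutes the projections. -/
theorem conj_proj {A B : Module.End ℂ V} (σ : W ≃ W)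
    (hσ : ∀ a, A * R (Multiplicative.ofAdd a) * B = R (Multiplicative.ofAdd (σ a))) (θ θ' : AddChar W ℂ)
    (hθ : ∀ a, θ' (-σ a) = θ (-a)) : A * proj R θ * B = proj R θ' := by
  simp only [proj, mul_smul_comm, smul_mul_assoc, Finset.mul_sum, Finset.sum_mul, hσ]
  congr 1
  exact Fintype.sum_equiv σ _ _ fun a => by rw [hθ]

/-- An operator permuting the group and fixing the character commutes with the projection. -/
theorem commute_proj {A B : Module.End ℂ V} (hBA : B * A = 1) (σ : W ≃ W)
    (hσ : ∀ a, A * R (Multiplicative.ofAdd a) * B = R (Multiplicative.ofAdd (σ a))) (θ : AddChar W ℂ)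
    (hθ : ∀ a, θ (-σ a) = θ (-a)) : A * proj R θ = proj R θ * A := by
  conv_rhs => rw [← conj_proj R σ hσ θ θ hθ]
  rw [mul_assoc, hBA, mul_one]

theorem commute_proj_proj {X : Type*} [AddCommGroup X] [Fintype X] (S : Multiplicative X →* Module.End ℂ V)
    (θ : AddChar W ℂ) (η : AddChar X ℂ)
    (h : ∀ v, S (Multiplicative.ofAdd v) * proj R θ = proj R θ * S (Multiplicative.ofAdd v)) :
    Commute (proj R θ) (proj S η) := by
  show proj R θ * proj S η = proj S η * proj R θ
  rw [proj.eq_def S η, mul_smul_comm, smul_mul_assoc, Finset.mul_sum, Finset.sum_mul]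
  congr 1
  exact Finset.sum_congr rfl fun v _ => by rw [mul_smul_comm, smul_mul_assoc, h]

/-- The projection of the trivial character is onto the fixed vectors. -/
theorem isProj_proj_zero (ρ : Representation ℂ (Multiplicative W) V) :
    LinearMap.IsProj ρ.invariants (proj ρ 1) := by
  constructor
  · intro v g
    rw [← Module.End.mul_apply]
    obtain ⟨a, rfl⟩ := Multiplicative.ofAdd.surjective g
    rw [R_mul_proj, AddChar.one_apply, one_smul]
  · intro v hv
    simp only [proj, AddChar.one_apply, one_smul, LinearMap.smul_apply, LinearMap.sum_apply]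
    rw [Finset.sum_congr rfl fun a _ => hv (Multiplicative.ofAdd a), Finset.sum_const, Finset.card_univ,
      ← Nat.cast_smul_eq_nsmul ℂ, smul_smul, inv_mul_cancel₀ cardW_ne_zero, one_smul]

end Cfsg.Lib.Linear.MinDegree
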