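import Cfsg.Agent.Lib.Linear.CrossChar
import Cfsg.Agent.Lib.Char.Central
import Cfsg.Agent.Lib.TwoDim.VectorChar

/-!
# The transvections of `SL_n(q)`

All transvections are conjugate for `n ≥ 3`, there are `(q ^ n - 1) * (q ^ (n - 1) - 1) / (q - 1)` of them, and
they generate.
-/

set_option autoImplicit false

namespace Cfsg.Lib.Linear.MinDegree

open Matrix Cfsg.Lib.Linear Cfsg.Lib.Linear.MinIndex Cfsg.Lib.Linear.AutPSL Cfsg.Lib.Char
open scoped MatrixGroups

universe u

variable {ι : Type} [Fintype ι] [DecidableEq ι] {F : Type u} [Field F]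

local notation "G" => SpecialLinearGroup ι F

theorem tau_smul (μ : F) {v a : ι → F} (h : a ⬝ᵥ v = 0) : tau (μ • v) a = tau v (μ • a) :=
  Subtype.ext (by
    rw [tau_val (by rw [dotProduct_smul, h, smul_zero]), tau_val (by rw [smul_dotProduct, h, smul_zero]), tvMat_smul])

theorem conj_tau' (g : G) {v a : ι → F} (h : a ⬝ᵥ v = 0) :
    g * tau v a * g⁻¹ = tau (g.1 *ᵥ v) (a ᵥ* (g⁻¹).1) := by
  have h0 : (a ᵥ* (g⁻¹).1) ⬝ᵥ (g.1 *ᵥ v) = 0 := by rw [← dotProduct_mulVec, inv_mulVec, h]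
  refine Subtype.ext ?_
  show g.1 * (tau v a).1 * (g⁻¹).1 = _
  rw [tau_val h, tau_val h0, tvMat, tvMat, Matrix.mul_add, Matrix.add_mul, Matrix.mul_one, mul_inv_val,
    Matrix.mul_vecMulVec, Matrix.vecMulVec_mul]

theorem tau_inv {v a : ι → F} (h : a ⬝ᵥ v = 0) : (tau v a)⁻¹ = tau v (-a) :=
  inv_eq_of_mul_eq_one_right (by
    rw [← tau_add h (by rw [neg_dotProduct, h, neg_zero]), add_neg_cancel, tau_zero])

theorem mulVec_tau {v a : ι → F} (h : a ⬝ᵥ v = 0) (x : ι → F) :
    (tau v a).1 *ᵥ x = x + (a ⬝ᵥ x) • v := by rw [tau_val h, tvMat_mulVec]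

theorem vecMul_tau {v a : ι → F} (h : a ⬝ᵥ v = 0) (x : ι → F) :
    x ᵥ* (tau v a).1 = x + (x ⬝ᵥ v) • a := by
  rw [tau_val h, tvMat, Matrix.vecMul_add, Matrix.vecMul_one, Matrix.vecMul_vecMulVec]

theorem vecMul_inv {g : G} {x y : ι → F} (h : x ᵥ* g.1 = y) : y ᵥ* (g⁻¹).1 = x := by
  rw [← h, vecMul_vecMul, mul_inv_val, vecMul_one]

theorem transvection_eq_tau {i j : ι} (h : i ≠ j) (c : F) :
    SpecialLinearGroup.transvection h c = tau (Pi.single i 1) (Pi.single j c) := by
  refine Subtype.ext ?_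
  rw [tau_val (by rw [single_dotProduct, Pi.single_eq_of_ne h.symm, mul_zero]),
    SpecialLinearGroup.transvection_coe, tvMat]
  congr 1
  ext a b
  rw [vecMulVec_apply, Matrix.single_apply]
  by_cases ha : i = a
  · subst ha
    by_cases hb : j = b
    · subst hb; simp
    · simp [hb, Ne.symm hb]
  · simp [ha, Ne.symm ha]

theorem exists_map (v w : ι → F) (hι : 3 ≤ Fintype.card ι) (hv : v ≠ 0) (hw : w ≠ 0) :
    ∃ g : G, g.1 *ᵥ v = w := by
  by_cases hi : v ∈ Submodule.span F {w - v}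
  · obtain ⟨z, hz⟩ := exists_notMem_span hι v w
    have hspan : ∀ x ∈ ({v, w} : Set (ι → F)), x ∈ Submodule.span F ({v, w} : Set (ι → F)) :=
      fun x hx => Submodule.subset_span hx
    have key : ∀ x ∈ ({v, w} : Set (ι → F)), x ≠ 0 →
        x ∉ Submodule.span F {z - x} ∧ z ∉ Submodule.span F {x - z} := by
      intro x hx hx0
      constructor
      · intro hc
        obtain ⟨c, hc⟩ := Submodule.mem_span_singleton.1 hc
        rcases eq_or_ne c 0 with rfl | hc0
        · exact hx0 (by rw [← hc, zero_smul])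
        · refine hz ?_
          have e : z = c⁻¹ • x + x := by
            nth_rw 1 [← hc]
            rw [smul_smul, inv_mul_cancel₀ hc0, one_smul, sub_add_cancel]
          rw [e]
          exact add_mem (Submodule.smul_mem _ _ (hspan x hx)) (hspan x hx)
      · intro hc
        obtain ⟨c, hc⟩ := Submodule.mem_span_singleton.1 hc
        by_cases hc1 : (1 : F) + c = 0
        · have e : c = -1 := by linear_combination hc1
          rw [e, neg_smul, one_smul, neg_sub] at hc
          exact hx0 (sub_eq_self.1 hc)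
        · refine hz ?_
          have e : z = (c / (1 + c)) • x := by
            have h1 : (1 + c) • z = c • x := by
              conv_lhs => rw [add_smul, one_smul]; lhs; rw [← hc]
              rw [smul_sub, sub_add_cancel]
            rw [div_eq_inv_mul, ← smul_smul, ← h1, smul_smul, inv_mul_cancel₀ hc1, one_smul]
          rw [e]
          exact Submodule.smul_mem _ _ (hspan x hx)
    obtain ⟨g, hg⟩ := exists_move (key v (Set.mem_insert _ _) hv).1
    obtain ⟨g', hg'⟩ := exists_move (key w (Set.mem_insert_of_mem _ rfl) hw).2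
    exact ⟨g' * g, by show (g'.1 * g.1) *ᵥ v = w; rw [← mulVec_mulVec, hg, hg']⟩
  · exact exists_move hi

theorem conj_axis_of_minor {l i j : ι} (hil : i ≠ l) (hjl : j ≠ l) (hij : i ≠ j) {a b : ι → F}
    (ha : a l = 0) (hb : b l = 0) (hm : a i * b j - a j * b i ≠ 0) :
    IsConj (tau (Pi.single l 1) a : G) (tau (Pi.single l 1) b) := by
  set D := a i * b j - a j * b i with hD
  set u : ι → F := Pi.single i ((b j - a j) / D) + Pi.single j ((a i - b i) / D) with hu
  have hau : a ⬝ᵥ u = 1 := by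
    rw [hu, dotProduct_add, dotProduct_single, dotProduct_single]
    field_simp
    rw [hD]; ring
  have hbu : b ⬝ᵥ u = 1 := by
    rw [hu, dotProduct_add, dotProduct_single, dotProduct_single]
    field_simp
    rw [hD]; ring
  have hcu : (a - b) ⬝ᵥ u = 0 := by rw [sub_dotProduct, hau, hbu, sub_self]
  have hce : (a - b) ⬝ᵥ Pi.single l 1 = 0 := by rw [dotProduct_single, Pi.sub_apply, ha, hb, sub_zero, zero_mul]
  refine isConj_iff.2 ⟨tau u (a - b), ?_⟩
  rw [conj_tau' _ (by rw [dotProduct_single, ha, zero_mul]), mulVec_tau hcu, hce, zero_smul, add_zero, tau_inv hcu,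
    vecMul_tau (by rw [neg_dotProduct, hcu, neg_zero]), hau, one_smul, neg_sub, add_sub_cancel]

theorem conj_axis (hι : 3 ≤ Fintype.card ι) {l : ι} {a b : ι → F} (ha : a l = 0) (hb : b l = 0)
    (ha0 : a ≠ 0) (hb0 : b ≠ 0) :
    IsConj (tau (Pi.single l 1) a : G) (tau (Pi.single l 1) b) := by
  by_cases hm : ∃ i j : ι, a i * b j - a j * b i ≠ 0
  · obtain ⟨i, j, hij⟩ := hm
    refine conj_axis_of_minor (i := i) (j := j) ?_ ?_ ?_ ha hb hij
    · rintro rfl; simp [ha, hb] at hij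
    · rintro rfl; simp [ha, hb] at hij
    · rintro rfl; simp at hij
  · push Not at hm
    obtain ⟨i, hi⟩ := Function.ne_iff.1 ha0
    have hil : i ≠ l := by rintro rfl; exact hi ha
    obtain ⟨j, hji, hjl⟩ := exists_third (i := i) (j := l) hι
    have hbi : b i ≠ 0 := by
      intro h0
      refine hb0 (funext fun k => ?_)
      have := hm i k
      rw [h0, mul_zero, sub_zero] at this
      exact (mul_eq_zero.1 this).resolve_left hi
    have hc : (Pi.single j 1 : ι → F) l = 0 := Pi.single_eq_of_ne hjl.symm _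
    refine (conj_axis_of_minor (i := i) (j := j) hil hjl hji ha hc ?_).trans
      (conj_axis_of_minor (i := j) (j := i) hjl hil hji.symm hc hb ?_)
    · simpa [Pi.single_eq_of_ne hji] using hi
    · simpa [Pi.single_eq_of_ne hji] using hbi

/-- All transvections are conjugate. -/
theorem isConj_tau (hι : 3 ≤ Fintype.card ι) {v a v' a' : ι → F} (hv : v ≠ 0) (ha : a ≠ 0) (h : a ⬝ᵥ v = 0)
    (hv' : v' ≠ 0) (ha' : a' ≠ 0) (h' : a' ⬝ᵥ v' = 0) : IsConj (tau v a : G) (tau v' a') := by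
  obtain ⟨l⟩ : Nonempty ι := Fintype.card_pos_iff.1 (by omega)
  have key : ∀ {x c : ι → F}, x ≠ 0 → c ≠ 0 → c ⬝ᵥ x = 0 →
      ∃ c' : ι → F, c' ≠ 0 ∧ c' l = 0 ∧ IsConj (tau x c : G) (tau (Pi.single l 1) c') := by
    intro x c hx hc hcx
    obtain ⟨g, hg⟩ := exists_map x (Pi.single l 1) hι hx (Pi.single_ne_zero_iff.2 one_ne_zero)
    refine ⟨c ᵥ* (g⁻¹).1, ?_, ?_, isConj_iff.2 ⟨g, by rw [conj_tau' g hcx, hg]⟩⟩
    · intro h0
      refine hc ?_
      have := congrArg (· ᵥ* g.1) h0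
      rwa [vecMul_vecMul, inv_mul_val, vecMul_one, zero_vecMul] at this
    · have h1 : (c ᵥ* (g⁻¹).1) ⬝ᵥ (g.1 *ᵥ x) = 0 := by rw [← dotProduct_mulVec, inv_mulVec, hcx]
      rwa [hg, dotProduct_single, mul_one] at h1
  obtain ⟨c, hc, hcl, h1⟩ := key hv ha h
  obtain ⟨c', hc', hcl', h2⟩ := key hv' ha' h'
  exact h1.trans ((conj_axis hι hcl hcl' hc hc').trans h2.symm)

theorem card_class_tau [Fintype F] [DecidableEq F] (hι : 3 ≤ Fintype.card ι) {v a : ι → F} (hv : v ≠ 0) (ha : a ≠ 0)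
    (h : a ⬝ᵥ v = 0) :
    (classFinset (tau v a : G)).card * (Fintype.card F - 1) =
      (Fintype.card F ^ Fintype.card ι - 1) * (Fintype.card F ^ (Fintype.card ι - 1) - 1) := by
  classical
  set pr : Finset ((ι → F) × (ι → F)) :=
    Finset.univ.filter fun p => p.1 ≠ 0 ∧ p.2 ≠ 0 ∧ p.2 ⬝ᵥ p.1 = 0 with hpr
  have hmem : ∀ p ∈ pr, tau p.1 p.2 ∈ classFinset (tau v a : G) := fun p hp => by
    obtain ⟨-, h1, h2, h3⟩ := Finset.mem_filter.1 hp
    exact mem_classFinset.2 (isConj_tau hι hv ha h h1 h2 h3)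
  have hfib : ∀ t ∈ classFinset (tau v a : G), (pr.filter fun p => tau p.1 p.2 = t).card = Fintype.card F - 1 := by
    intro t ht
    obtain ⟨g, rfl⟩ := isConj_iff.1 (mem_classFinset.1 ht)
    rw [conj_tau' g h]
    set x := g.1 *ᵥ v with hx
    set c := a ᵥ* (g⁻¹).1 with hc
    have hx0 : x ≠ 0 := mulVec_ne_zero g hv
    have hc0 : c ≠ 0 := fun h0 => ha (by
      have := congrArg (· ᵥ* g.1) h0
      rwa [hc, vecMul_vecMul, inv_mul_val, vecMul_one, zero_vecMul] at this)
    have hcx : c ⬝ᵥ x = 0 := by rw [hx, hc, ← dotProduct_mulVec, inv_mulVec, h]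
    rw [← Fintype.card_units, ← Finset.card_univ]
    refine (Finset.card_bij (fun (μ : Fˣ) _ => ((μ : F) • x, ((μ⁻¹ : Fˣ) : F) • c)) ?_ ?_ ?_).symm
    · intro μ _
      have h0 : ((μ⁻¹ : Fˣ) : F) • c ⬝ᵥ x = 0 := by rw [smul_dotProduct, hcx, smul_zero]
      refine Finset.mem_filter.2 ⟨Finset.mem_filter.2 ⟨Finset.mem_univ _, smul_ne_zero μ.ne_zero hx0,
        smul_ne_zero (Units.ne_zero _) hc0, by rw [dotProduct_smul, h0, smul_zero]⟩, ?_⟩
      rw [tau_smul _ h0, smul_smul, Units.mul_inv, one_smul]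
    · intro μ _ μ' _ e
      exact Units.ext (smul_left_injective F hx0 (congrArg Prod.fst e))
    · intro p hp
      obtain ⟨hp1, ht⟩ := Finset.mem_filter.1 hp
      obtain ⟨-, h1, h2, h3⟩ := Finset.mem_filter.1 hp1
      have e := congrArg Subtype.val ht
      rw [tau_val h3, tau_val hcx, tvMat, tvMat, add_right_inj] at e
      obtain ⟨k, hk⟩ := Function.ne_iff.1 hc0
      have e1 : ∀ i, p.1 i * p.2 k = x i * c k := fun i => by
        simpa [vecMulVec_apply] using congrFun (congrFun e i) k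
      have hp2k : p.2 k ≠ 0 := fun h0 => hx0 (funext fun i => by
        have := e1 i; rw [h0, mul_zero] at this
        exact (mul_eq_zero.1 this.symm).resolve_right hk)
      have hμ : c k / p.2 k ≠ 0 := div_ne_zero hk hp2k
      have hp1' : p.1 = (c k / p.2 k) • x := funext fun i => by
        rw [Pi.smul_apply, smul_eq_mul, div_mul_eq_mul_div, eq_div_iff hp2k, e1 i, mul_comm]
      refine ⟨Units.mk0 _ hμ, Finset.mem_univ _, Prod.ext hp1'.symm (funext fun j => ?_)⟩
      obtain ⟨i, hi⟩ := Function.ne_iff.1 hx0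
      have e2 : p.1 i * p.2 j = x i * c j := by simpa [vecMulVec_apply] using congrFun (congrFun e i) j
      rw [hp1', Pi.smul_apply, smul_eq_mul, mul_right_comm, mul_comm (x i)] at e2
      have e3 := mul_right_cancel₀ hi e2
      simp only [Units.val_inv_eq_inv_val, Units.val_mk0, Pi.smul_apply, smul_eq_mul]
      rw [inv_mul_eq_iff_eq_mul₀ hμ, e3]
  have hperp : ∀ x : ι → F, x ≠ 0 →
      (Finset.univ.filter fun c : ι → F => c ⬝ᵥ x = 0).card * Fintype.card F = Fintype.card F ^ Fintype.card ι := by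
    intro x hx
    rw [← card_Tc hx]
    congr 1
    rw [← Fintype.card_subtype, ← Nat.card_eq_fintype_card]
    refine Nat.card_congr (Equiv.ofBijective (fun c => ⟨tau x c.1, tau_mem_Tc c.2⟩) ⟨?_, ?_⟩)
    · intro c c' e
      exact Subtype.ext (tau_injective hx c.2 c'.2 (congrArg Subtype.val e))
    · rintro ⟨t, c, hc, ht⟩
      exact ⟨⟨c, hc⟩, Subtype.ext (Subtype.ext (by rw [tau_val hc]; exact ht.symm))⟩
  have hq : 0 < Fintype.card F := Fintype.card_pos
  have hprc : pr.card = (Fintype.card F ^ Fintype.card ι - 1) * (Fintype.card F ^ (Fintype.card ι - 1) - 1) := by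
    rw [Finset.card_eq_sum_card_fiberwise (f := Prod.fst) (t := Finset.univ.erase (0 : ι → F))
      (fun p hp => Finset.mem_erase.2 ⟨(Finset.mem_filter.1 hp).2.1, Finset.mem_univ _⟩)]
    rw [Finset.sum_congr rfl (g := fun _ => Fintype.card F ^ (Fintype.card ι - 1) - 1) fun x hx => ?_,
      Finset.sum_const, Finset.card_erase_of_mem (Finset.mem_univ _), Finset.card_univ, Fintype.card_fun, smul_eq_mul]
    have hx0 := (Finset.mem_erase.1 hx).1
    have h1 : (Finset.univ.filter fun c : ι → F => c ⬝ᵥ x = 0).card = Fintype.card F ^ (Fintype.card ι - 1) := by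
      refine Nat.eq_of_mul_eq_mul_right hq ?_
      rw [hperp x hx0, ← pow_succ, Nat.sub_add_cancel (by omega)]
    rw [← h1, ← Finset.card_erase_of_mem (a := (0 : ι → F)) (by simp)]
    refine Finset.card_bij (fun p _ => p.2) ?_ ?_ ?_
    · intro p hp
      obtain ⟨hp1, rfl⟩ := Finset.mem_filter.1 hp
      obtain ⟨-, -, h2, h3⟩ := Finset.mem_filter.1 hp1
      exact Finset.mem_erase.2 ⟨h2, Finset.mem_filter.2 ⟨Finset.mem_univ _, h3⟩⟩
    · intro p hp p' hp' e
      exact Prod.ext ((Finset.mem_filter.1 hp).2.trans (Finset.mem_filter.1 hp').2.symm) e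
    · intro c hc
      obtain ⟨h2, h3⟩ := Finset.mem_erase.1 hc
      exact ⟨(x, c), Finset.mem_filter.2 ⟨Finset.mem_filter.2 ⟨Finset.mem_univ _, hx0, h2,
        (Finset.mem_filter.1 h3).2⟩, rfl⟩, rfl⟩
  rw [← hprc, Finset.card_eq_sum_card_fiberwise hmem, Finset.sum_congr rfl hfib, Finset.sum_const, smul_eq_mul]

end Cfsg.Lib.Linear.MinDegree
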