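import Cfsg.Agent.Lib.Linear.MinDegree.Step

/-!
# The minimal degree of a non-linear irreducible representation of `SL_n(q)`

Induction on `n`: a representation below the bound has a Levi module of degree at most the previous bound, and the
integrality of the central character at a transvection excludes the few remaining degrees.
-/

set_option autoImplicit false

namespace Cfsg.Lib.Linear.MinDegree

open Matrix
open scoped MatrixGroups

universe u

/-- The integrality condition at the bound for `n - 1` reduces to a divisor of `2 (q - 1) (2 q - 1)`. -/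
theorem top_dvd {a S : ℤ} (h : a * S - 1 ∣ (a - 1) * (a * S + 1) * S * (S - 2)) :
    a * S - 1 ∣ 2 * (a - 1) * (2 * a - 1) := by
  have h1 : a * S - 1 ∣ a ^ 2 * ((a - 1) * (a * S + 1) * S * (S - 2)) := h.mul_left _
  have h2 : a * S - 1 ∣ (a * S - 1) * ((a - 1) * ((a * S) ^ 2 + (2 - 2 * a) * (a * S) + (2 - 4 * a))) :=
    dvd_mul_right _ _
  have h3 := h2.sub h1
  have e : (a * S - 1) * ((a - 1) * ((a * S) ^ 2 + (2 - 2 * a) * (a * S) + (2 - 4 * a))) -
      a ^ 2 * ((a - 1) * (a * S + 1) * S * (S - 2)) = 2 * (a - 1) * (2 * a - 1) := by ring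
  rwa [e] at h3

theorem top_false {a S : ℤ} (ha : 2 ≤ a) (hS : S = a + 1 ∨ a ^ 2 + a + 1 ≤ S)
    (h : a * S - 1 ∣ (a - 1) * (a * S + 1) * S * (S - 2)) : False := by
  have h1 := top_dvd h
  have hpos : 0 < 2 * (a - 1) * (2 * a - 1) := by nlinarith
  rcases hS with rfl | hS
  · obtain ⟨z, hz⟩ := h1
    have hz1 : 1 ≤ z := by
      by_contra hh
      push Not at hh
      nlinarith [show (0:ℤ) < a * (a + 1) - 1 by nlinarith]
    have hz2 : z ≤ 3 := by
      by_contra hh
      push Not at hh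
      nlinarith [show (0:ℤ) < a * (a + 1) - 1 by nlinarith]
    have ha10 : a ≤ 10 := by
      by_contra hh
      push Not at hh
      rcases (by omega : z = 1 ∨ z = 2 ∨ z = 3) with rfl | rfl | rfl <;> nlinarith
    interval_cases a <;> interval_cases z <;> norm_num at hz
  · have h2 := Int.le_of_dvd hpos h1
    nlinarith [mul_le_mul_of_nonneg_left hS (by omega : (0:ℤ) ≤ a)]

theorem middle_false {a : ℤ} (ha : 3 ≤ a) (h4 : a ≠ 4) (h10 : a ≠ 10)
    (h : (a - 1) * (a + 2) ∣ (a ^ 3 - 1) * (a + 1) * (a - 2)) : False := by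
  have h1 : a + 2 ∣ (a ^ 2 + a + 1) * (a + 1) * (a - 2) := by
    refine Int.dvd_of_mul_dvd_mul_left (a := a - 1) (by omega) ?_
    have e : (a - 1) * ((a ^ 2 + a + 1) * (a + 1) * (a - 2)) = (a ^ 3 - 1) * (a + 1) * (a - 2) := by ring
    rwa [e]
  have h2 : a + 2 ∣ (a + 2) * (a ^ 3 - 2 * a ^ 2 + 2 * a - 7) := dvd_mul_right _ _
  have h3 := h1.sub h2
  have e : (a ^ 2 + a + 1) * (a + 1) * (a - 2) - (a + 2) * (a ^ 3 - 2 * a ^ 2 + 2 * a - 7) = 12 := by ring
  rw [e] at h3
  have h5 := Int.le_of_dvd (by norm_num) h3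
  have h6 : a ≤ 10 := by omega
  interval_cases a <;> first | contradiction | norm_num at h3

variable (F : Type u) [Field F] [Fintype F] [DecidableEq F]

local notation "q" => Fintype.card F

theorem card_ne_ten : q ≠ 10 := by
  intro h
  obtain ⟨p, hp⟩ := CharP.exists F
  obtain ⟨k, hpp, hk⟩ := FiniteField.card F p
  rw [h] at hk
  have h2 : 2 ∣ p ^ (k : ℕ) := by rw [← hk]; norm_num
  have h5 : 5 ∣ p ^ (k : ℕ) := by rw [← hk]; norm_num
  have e2 := (Nat.prime_dvd_prime_iff_eq Nat.prime_two hpp).1 (Nat.prime_two.dvd_of_dvd_pow h2)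
  have e5 := (Nat.prime_dvd_prime_iff_eq (by norm_num) hpp).1 ((by norm_num : Nat.Prime 5).dvd_of_dvd_pow h5)
  omega

theorem class_cast (n : ℕ) :
    (((q ^ n - 1) * geo q (n - 1) : ℕ) : ℤ) = ((q : ℤ) ^ n - 1) * (geo q (n - 1) : ℤ) := by
  have := Nat.one_le_pow n q Fintype.card_pos
  push_cast [Nat.cast_sub this]
  ring

theorem top_excluded {n d d₀ : ℕ} (hn : 3 ≤ n) (hd : d + 1 = q ^ (n - 1) + d₀) (hd₀ : d₀ = tgt q (n - 1))
    (h : (d : ℤ) ∣ (((q ^ n - 1) * geo q (n - 1) : ℕ) : ℤ) * ((d₀ : ℤ) - 1)) : False := by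
  obtain ⟨k, rfl⟩ : ∃ k, n = k + 3 := ⟨n - 3, by omega⟩
  rw [class_cast] at h
  simp only [show k + 3 - 1 = k + 2 from rfl] at hd hd₀ h
  have h1 : geo q (k + 2) = d₀ + 1 := by rw [hd₀]; exact geo_eq (by omega)
  have h2 : geo q (k + 3) = q * geo q (k + 2) + 1 := rfl
  have h3 := geo_succ' q (k + 2)
  have hd' : (d : ℤ) = (q : ℤ) * (geo q (k + 2) : ℤ) - 1 := by
    have : d + 1 = q * geo q (k + 2) := by
      rw [show k + 2 + 1 = k + 3 from rfl, h2] at h3
      omega
    rw [eq_sub_iff_add_eq]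
    exact_mod_cast this
  have hA : ((q : ℤ) ^ (k + 3) - 1) = ((q : ℤ) - 1) * ((q : ℤ) * (geo q (k + 2) : ℤ) + 1) := by
    have h4 : (((q - 1) * geo q (k + 3) + 1 : ℕ) : ℤ) = ((q ^ (k + 3) : ℕ) : ℤ) :=
      congrArg Nat.cast (geo_mul q (k + 3) Fintype.card_pos)
    rw [h2] at h4
    push_cast [Nat.cast_sub (show 1 ≤ q from Fintype.card_pos)] at h4
    linear_combination -h4
  have hd0' : (d₀ : ℤ) - 1 = (geo q (k + 2) : ℤ) - 2 := by rw [h1]; push_cast; ring
  rw [hd', hA, hd0'] at h
  refine top_false (a := (q : ℤ)) (by exact_mod_cast Fintype.one_lt_card) ?_ h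
  rcases k with _ | k
  · left
    simp [geo]
  · right
    have h5 : geo q 3 ≤ geo q (k + 1 + 2) := by
      have : ∀ j, geo q 3 ≤ geo q (j + 3) := fun j => by
        induction j with
        | zero => rfl
        | succ j ih => rw [show j + 1 + 3 = j + 3 + 1 from rfl, geo_succ' q (j + 3)]; omega
      exact this k
    have h6 : ((geo q 3 : ℕ) : ℤ) ≤ (geo q (k + 1 + 2) : ℤ) := by exact_mod_cast h5
    refine le_trans (le_of_eq ?_) h6
    simp [geo]
    ring

omit [DecidableEq F] in
theorem tgt_succ {n : ℕ} (hn : 1 ≤ n) : tgt q (n + 1) = q ^ n + tgt q n := by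
  have h1 := geo_succ' q n
  have h2 := @geo_eq q n hn
  have h3 := @geo_eq q (n + 1) (by omega)
  omega

theorem three_bound (hq : Generic 3 q) {d : ℕ} (hd : IsDeg (SpecialLinearGroup (Fin 3) F) d) : tgt q 3 ≤ d := by
  have : Fact (3 ≤ 3) := ⟨le_rfl⟩
  by_contra hlt
  obtain ⟨d₀, h1, h2, -, h4⟩ := step hd (not_le.1 hlt)
  have h5 := h4 hq
  simp only [show (3 : ℕ) - 2 = 1 from rfl, pow_one] at h5
  have ht := @tgt_succ F _ _ 2 (by omega)
  have ht2 : tgt q 2 = q := by simp [tgt, geo]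
  simp only [show (3 : ℕ) - 1 = 2 from rfl, show (2 : ℕ) + 1 = 3 from rfl] at h1 ht
  have hq2 : 2 ≤ q := Fintype.one_lt_card
  rcases (by omega : d₀ = q ∨ d₀ + 1 = q) with e | e
  · exact top_excluded F (n := 3) le_rfl h1 (by rw [show (3:ℕ) - 1 = 2 from rfl, ht2]; exact e) h2
  · have hne2 : q ≠ 2 := fun h => hq.1 (by rw [h])
    have hne4 : q ≠ 4 := fun h => hq.2.1 (by rw [h])
    refine middle_false (a := (q : ℤ)) (by omega) (by omega)
      (by have := card_ne_ten F; omega) ?_
    have hg : ((geo q 2 : ℕ) : ℤ) = (q : ℤ) + 1 := by simp [geo]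
    rw [class_cast, show (3 : ℕ) - 1 = 2 from rfl, hg] at h2
    have hd' : (d : ℤ) = ((q : ℤ) - 1) * ((q : ℤ) + 2) := by
      have e1 : ((d + 1 : ℕ) : ℤ) = ((q ^ 2 + d₀ : ℕ) : ℤ) := congrArg Nat.cast h1
      have e2 : ((d₀ + 1 : ℕ) : ℤ) = (q : ℤ) := congrArg Nat.cast e
      push_cast at e1 e2
      linear_combination e1 + e2
    have hd0' : (d₀ : ℤ) - 1 = (q : ℤ) - 2 := by omega
    rwa [hd', hd0'] at h2

theorem feeder_three_four (hq : q = 4) {d : ℕ} (hd : IsDeg (SpecialLinearGroup (Fin 3) F) d) (hlt : d < 20) :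
    15 ≤ d ∧ d ≠ 17 := by
  have : Fact (3 ≤ 3) := ⟨le_rfl⟩
  obtain ⟨d₀, h1, h2, -, -⟩ := step hd (show d < tgt q 3 by rw [hq]; exact hlt)
  rw [hq] at h1 h2
  refine ⟨by norm_num at h1; omega, ?_⟩
  rintro rfl
  obtain rfl : d₀ = 2 := by norm_num at h1; omega
  norm_num [geo] at h2

theorem feeder_four_two (hq : q = 2) {d : ℕ} (hd : IsDeg (SpecialLinearGroup (Fin 4) F) d) (hlt : d < 14) :
    7 ≤ d ∧ d ≠ 9 := by
  have : Fact (3 ≤ 4) := ⟨by norm_num⟩
  obtain ⟨d₀, h1, h2, -, -⟩ := step hd (show d < tgt q 4 by rw [hq]; exact hlt)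
  rw [hq] at h1 h2
  refine ⟨by norm_num at h1; omega, ?_⟩
  rintro rfl
  obtain rfl : d₀ = 2 := by norm_num at h1; omega
  norm_num [geo] at h2

theorem feeder_four_three (hq : q = 3) {d : ℕ} (hd : IsDeg (SpecialLinearGroup (Fin 4) F) d) (hlt : d < 39) :
    d = 26 ∨ d = 38 := by
  have : Fact (3 ≤ 4) := ⟨by norm_num⟩
  obtain ⟨d₀, h1, -, h3, -⟩ := step hd (show d < tgt q 4 by rw [hq]; exact hlt)
  rw [hq] at h1
  norm_num at h1
  rcases h3 with rfl | ⟨k, hk, hk'⟩
  · omega
  · have h5 := three_bound F (by rw [hq]; simp [Generic]) hk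
    rw [hq] at h5
    norm_num [tgt, geo] at h5
    rcases hk' with rfl | ⟨k', -, hk''⟩ <;> omega

/-- The lower bound. -/
theorem degree_bound' (n : ℕ) (hn : 3 ≤ n) (hq : Generic n q) {d : ℕ}
    (hd : IsDeg (SpecialLinearGroup (Fin n) F) d) : tgt q n ≤ d := by
  induction n using Nat.strong_induction_on generalizing d with
  | _ n ih =>
    rcases hn.eq_or_lt with rfl | hn4
    · exact three_bound F hq hd
    have : Fact (3 ≤ n) := ⟨hn⟩
    by_contra hlt
    obtain ⟨d₀, h1, h2, h3, h4⟩ := step hd (not_le.1 hlt)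
    have h5 := h4 hq
    have hq2 : 2 ≤ q := Fintype.one_lt_card
    have h6 : q ≤ q ^ (n - 2) := by
      calc q = q ^ 1 := (pow_one _).symm
        _ ≤ q ^ (n - 2) := Nat.pow_le_pow_right (by omega) (by omega)
    obtain ⟨k, hk, hk'⟩ := h3.resolve_left (by omega)
    have hkle : k ≤ d₀ := by rcases hk' with rfl | ⟨k', -, h⟩ <;> omega
    have ht := @tgt_succ F _ _ (n - 1) (by omega)
    rw [show n - 1 + 1 = n by omega] at ht
    have hd₀ : d₀ ≤ tgt q (n - 1) := by omega
    by_cases hg : Generic (n - 1) q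
    · have h7 := ih (n - 1) (by omega) (by omega) hg hk
      exact top_excluded F hn h1 (by omega) h2
    · have hg' : (n - 1 = 3 ∧ q = 2) ∨ (n - 1 = 3 ∧ q = 4) ∨ (n - 1 = 4 ∧ q = 2) ∨ (n - 1 = 4 ∧ q = 3) := by
        simp only [Generic, ne_eq, Prod.mk.injEq] at hg
        tauto
      obtain ⟨hA, hB, hC, hD⟩ := hq
      rcases hg' with ⟨hm, hqv⟩ | ⟨hm, hqv⟩ | ⟨hm, hqv⟩ | ⟨hm, hqv⟩
      · exact hC (by rw [hqv, show n = 4 by omega])
      · obtain rfl : n = 4 := by omega
        rw [hqv] at hd₀ h1 h2 h5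
        norm_num [tgt, geo] at hd₀ h1 h2 h5
        have hk15 : 15 ≤ k := by
          by_contra h
          have := (feeder_three_four F hqv hk (by omega)).1
          omega
        rcases hk' with rfl | ⟨k', hk2, hsum⟩
        · rcases (show k = 20 ∨ k < 20 by omega) with rfl | hlt'
          · obtain rfl : d = 83 := by omega
            norm_num at h2
          · have := (feeder_three_four F hqv hk hlt').2
            obtain rfl : d = 63 + k := by omega
            interval_cases k <;> first | contradiction | norm_num at h2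
        · have := (feeder_three_four F hqv hk2 (by omega)).1
          omega
      · obtain rfl : n = 5 := by omega
        rw [hqv] at hd₀ h1 h2 h5
        norm_num [tgt, geo] at hd₀ h1 h2 h5
        have hk7 : 7 ≤ k := by
          by_contra h
          have := (feeder_four_two F hqv hk (by omega)).1
          omega
        have h9 : d₀ ≠ 9 := by
          rintro rfl
          rcases hk' with rfl | ⟨k', hk2, hsum⟩
          · exact (feeder_four_two F hqv hk (by omega)).2 rfl
          · have := (feeder_four_two F hqv hk2 (by omega)).1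
            omega
        obtain rfl : d = 15 + d₀ := by omega
        interval_cases d₀ <;> first | contradiction | norm_num at h2
      · obtain rfl : n = 5 := by omega
        rw [hqv] at hd₀ h1 h2 h5
        norm_num [tgt, geo] at hd₀ h1 h2 h5
        have hk26 : 26 ≤ k := by
          by_contra h
          have := feeder_four_three F hqv hk (by omega)
          omega
        rcases hk' with rfl | ⟨k', hk2, hsum⟩
        · obtain rfl : d = 80 + k := by omega
          rcases (show k = 39 ∨ k < 39 by omega) with rfl | hlt'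
          · norm_num at h2
          · rcases feeder_four_three F hqv hk hlt' with rfl | rfl <;> norm_num at h2
        · have := feeder_four_three F hqv hk2 (by omega)
          omega

end Cfsg.Lib.Linear.MinDegree
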