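import Cfsg.Agent.Lib.Linear.MinDegree.Basic
import Cfsg.Agent.Lib.Linear.MinDegree.Proj
import Cfsg.Agent.Lib.Char.Constituents
import Cfsg.Agent.Lib.Char.Orthogonality

/-!
# The fixed space of the translations as a module for the Levi complement
-/

set_option autoImplicit false

namespace Cfsg.Lib.Linear.MinDegree

open Matrix Cfsg Cfsg.Lib.Linear Cfsg.Lib.Linear.MinIndex Cfsg.Lib.Linear.CrossChar Cfsg.Lib.Linear.AutPSL Cfsg.Lib.Char
open scoped MatrixGroups

universe u v

variable {ι : Type} [Fintype ι] [DecidableEq ι] {F : Type u} [Field F]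

local notation "G" => SpecialLinearGroup ι F

theorem tau_add_left {v w a : ι → F} (hv : a ⬝ᵥ v = 0) (hw : a ⬝ᵥ w = 0) :
    tau (v + w) a = tau v a * tau w a := by
  refine Subtype.ext ?_
  show _ = (tau v a).1 * (tau w a).1
  rw [tau_val hv, tau_val hw, tau_val (by rw [dotProduct_add, hv, hw, add_zero]), tvMat, tvMat, tvMat, Matrix.mul_add,
    Matrix.mul_one, Matrix.add_mul, Matrix.one_mul, vecMulVec_mul_vecMulVec, hw, zero_smul, vecMulVec_zero, add_zero,
    add_vecMulVec, add_assoc]

variable (F) in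
/-- The transvections with centre a basis vector. -/
noncomputable def transC (l : ι) : Multiplicative ({i // i ≠ l} → F) →* G where
  toFun a := tau (Pi.single l 1) (ext0 a.toAdd)
  map_one' := by
    rw [show ext0 (1 : Multiplicative ({i // i ≠ l} → F)).toAdd = 0 by funext i; simp [ext0], tau_zero]
  map_mul' a b := by rw [toAdd_mul, ext0_add, tau_add (ext0_perp _) (ext0_perp _)]

variable (F) in
/-- The transvections with axis a coordinate. -/
noncomputable def transA (r : ι) : Multiplicative ({i // i ≠ r} → F) →* G where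
  toFun a := tau (ext0 a.toAdd) (Pi.single r 1)
  map_one' := by
    refine Subtype.ext ?_
    rw [tau_val (by rw [dotProduct_comm, ext0_perp]),
      show ext0 (1 : Multiplicative ({i // i ≠ r} → F)).toAdd = 0 by funext i; simp [ext0], tvMat, zero_vecMulVec,
      add_zero]
    rfl
  map_mul' a b := by
    rw [toAdd_mul, ext0_add, tau_add_left (by rw [dotProduct_comm, ext0_perp]) (by rw [dotProduct_comm, ext0_perp])]

theorem transC_apply (l : ι) (a : {i // i ≠ l} → F) :
    transC F l (Multiplicative.ofAdd a) = tau (Pi.single l 1) (ext0 a) := rfl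

theorem transA_apply (r : ι) (a : {i // i ≠ r} → F) :
    transA F r (Multiplicative.ofAdd a) = tau (ext0 a) (Pi.single r 1) := rfl

theorem ext0_ne_zero {l : ι} {a : {i // i ≠ l} → F} (ha : a ≠ 0) : ext0 a ≠ 0 := fun h =>
  ha (funext fun i => by rw [← ext0_apply a i, h]; rfl)

/-- The block matrix of `h` on the coordinates off `l`. -/
def levMat {l : ι} (h : Matrix {i // i ≠ l} {i // i ≠ l} F) : Matrix ι ι F :=
  Matrix.of fun i j => if hi : i ≠ l then (if hj : j ≠ l then h ⟨i, hi⟩ ⟨j, hj⟩ else 0) else (if j = l then 1 else 0)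

theorem levMat_mul {l : ι} (h k : Matrix {i // i ≠ l} {i // i ≠ l} F) : levMat h * levMat k = levMat (h * k) := by
  ext i j
  rw [Matrix.mul_apply, ← Finset.add_sum_erase _ _ (Finset.mem_univ l)]
  by_cases hi : i ≠ l
  · by_cases hj : j ≠ l
    · simp only [levMat, Matrix.of_apply, hi, hj, ne_eq, not_false_eq_true, dite_true, not_true_eq_false, dite_false,
        zero_mul, zero_add, Matrix.mul_apply]
      refine (Finset.sum_subtype _ (fun x => by simp) _).trans (Finset.sum_congr rfl fun x _ => ?_)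
      simp [x.2]
    · rw [not_ne_iff] at hj; subst hj
      simp only [levMat, Matrix.of_apply, hi, ne_eq, not_false_eq_true, dite_true, not_true_eq_false, dite_false,
        zero_mul, zero_add]
      exact Finset.sum_eq_zero fun x hx => by simp [(Finset.mem_erase.1 hx).1]
  · rw [not_ne_iff] at hi; subst hi
    simp only [levMat, Matrix.of_apply, ne_eq, not_true_eq_false, dite_false, if_true, one_mul]
    rw [Finset.sum_eq_zero fun x hx => by simp [(Finset.mem_erase.1 hx).1], add_zero]

theorem levMat_one {l : ι} : levMat (1 : Matrix {i // i ≠ l} {i // i ≠ l} F) = 1 := by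
  ext i j
  by_cases hi : i ≠ l
  · by_cases hj : j ≠ l
    · simp [levMat, hi, hj, Matrix.one_apply]
    · rw [not_ne_iff] at hj; subst hj
      simp [levMat, hi]
  · rw [not_ne_iff] at hi; subst hi
    simp [levMat, Matrix.one_apply, eq_comm]

theorem det_levMat {l : ι} (h : Matrix {i // i ≠ l} {i // i ≠ l} F) : (levMat h).det = h.det := by
  rw [Matrix.twoBlockTriangular_det (levMat h) (fun i => i ≠ l)
    (fun i hi j hj => by simp [levMat, not_ne_iff.1 hi, hj])]
  have h1 : (levMat h).toSquareBlockProp (fun i => i ≠ l) = h := by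
    ext ⟨i, hi⟩ ⟨j, hj⟩
    simp [levMat, Matrix.toSquareBlockProp_def, hi, hj]
  have h2 : (levMat h).toSquareBlockProp (fun i => ¬ (i ≠ l)) = 1 := by
    ext ⟨i, hi⟩ ⟨j, hj⟩
    rw [not_ne_iff] at hi hj
    subst hi hj
    simp [levMat, Matrix.toSquareBlockProp_def]
  rw [h1, h2, det_one, mul_one]

variable (F) in
/-- The Levi complement of the stabiliser of a basis vector. -/
def lev (l : ι) : SpecialLinearGroup {i // i ≠ l} F →* G where
  toFun h := ⟨levMat h.1, by rw [det_levMat, h.2]⟩
  map_one' := Subtype.ext levMat_one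
  map_mul' h k := Subtype.ext (levMat_mul h.1 k.1).symm

theorem lev_val (l : ι) (h : SpecialLinearGroup {i // i ≠ l} F) : (lev F l h).1 = levMat h.1 := rfl

theorem levMat_fix {l : ι} (h : Matrix {i // i ≠ l} {i // i ≠ l} F) :
    levMat h *ᵥ Pi.single l 1 = Pi.single l 1 := by
  rw [mulVec_single_one]
  funext i
  by_cases hi : i ≠ l
  · simp [levMat, Matrix.col_apply, hi]
  · rw [not_ne_iff] at hi; subst hi
    simp [levMat, Matrix.col_apply]

/-- The stabiliser of a basis vector. -/
theorem exists_lev_mul {l : ι} {g : G} (hg : g.1 *ᵥ Pi.single l 1 = Pi.single l 1) :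
    ∃ h a, g = lev F l h * transC F l (Multiplicative.ofAdd a) := by
  set k : Matrix {i // i ≠ l} {i // i ≠ l} F := Matrix.of fun i j => g.1 i.1 j.1
  set a : {i // i ≠ l} → F := fun j => g.1 l j.1
  have hcol : ∀ i, g.1 i l = (Pi.single l 1 : ι → F) i := fun i => by
    rw [← hg, mulVec_single_one, Matrix.col_apply]
  have e : g.1 = levMat k * tvMat (Pi.single l 1) (ext0 a) := by
    rw [tvMat, Matrix.mul_add, Matrix.mul_one, Matrix.mul_vecMulVec, levMat_fix]
    ext i j
    rw [Matrix.add_apply, vecMulVec_apply]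
    by_cases hj : j ≠ l
    · by_cases hi : i ≠ l
      · simp [levMat, k, hi, hj, Pi.single_eq_of_ne hi]
      · rw [not_ne_iff] at hi; subst hi
        simp [levMat, ext0, a, hj]
    · rw [not_ne_iff] at hj; subst hj
      rw [hcol i]
      by_cases hi : i ≠ j
      · simp [levMat, hi, ext0]
      · rw [not_ne_iff] at hi; subst hi
        simp [levMat, ext0]
  have hk : k.det = 1 := by
    have := congrArg Matrix.det e
    rw [g.2, det_mul, det_levMat, det_tvMat, ext0_perp, add_zero, mul_one] at this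
    exact this.symm
  refine ⟨⟨k, hk⟩, a, Subtype.ext ?_⟩
  show g.1 = (lev F l ⟨k, hk⟩).1 * (transC F l (Multiplicative.ofAdd a)).1
  rw [e, transC_apply, tau_val (ext0_perp a)]
  rfl

theorem lev_conj (l : ι) (h : SpecialLinearGroup {i // i ≠ l} F) (a : {i // i ≠ l} → F) :
    ∃ b, lev F l h * transC F l (Multiplicative.ofAdd a) = transC F l (Multiplicative.ofAdd b) * lev F l h := by
  set g := lev F l h with hgd
  have hg : g.1 *ᵥ Pi.single l 1 = Pi.single l 1 := by rw [hgd, lev_val, levMat_fix]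
  have h0 : (ext0 a ᵥ* (g⁻¹).1) l = 0 := by
    have h1 : (ext0 a ᵥ* (g⁻¹).1) ⬝ᵥ (g.1 *ᵥ Pi.single l 1) = 0 := by
      rw [← dotProduct_mulVec, inv_mulVec, ext0_perp]
    rwa [hg, dotProduct_single, mul_one] at h1
  refine ⟨fun i => (ext0 a ᵥ* (g⁻¹).1) i.val, ?_⟩
  rw [transC_apply, transC_apply, restrict_ext0 h0, ← mul_inv_eq_iff_eq_mul, conj_tau' g (ext0_perp a), hg]

section Rep

variable [Fintype F] [DecidableEq F] {V : Type v} [AddCommGroup V] [Module ℂ V] [FiniteDimensional ℂ V]

/-- The translations acting on a representation. -/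
noncomputable def transRep (ρ : Representation ℂ G V) (l : ι) :
    Representation ℂ (Multiplicative ({i // i ≠ l} → F)) V := ρ.comp (transC F l)

/-- The vectors fixed by the translations as a module for the Levi complement. -/
noncomputable def fixRep (ρ : Representation ℂ G V) (l : ι) :
    Representation ℂ (SpecialLinearGroup {i // i ≠ l} F) (transRep ρ l).invariants where
  toFun h := (ρ (lev F l h)).restrict (p := (transRep ρ l).invariants) (q := (transRep ρ l).invariants)
    fun v hv g => by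
      obtain ⟨a, rfl⟩ := Multiplicative.ofAdd.surjective g
      obtain ⟨b, hb⟩ := lev_conj l h⁻¹ a
      show ρ (transC F l (Multiplicative.ofAdd a)) (ρ (lev F l h) v) = ρ (lev F l h) v
      have e : transC F l (Multiplicative.ofAdd a) * lev F l h = lev F l h * transC F l (Multiplicative.ofAdd b) := by
        rw [map_inv] at hb
        rw [eq_comm, ← eq_inv_mul_iff_mul_eq, ← mul_assoc, hb, inv_mul_cancel_right]
      rw [← Module.End.mul_apply, ← map_mul, e, map_mul, Module.End.mul_apply]
      exact congrArg _ (hv (Multiplicative.ofAdd b))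
  map_one' := LinearMap.ext fun v => Subtype.ext (by simp)
  map_mul' h k := LinearMap.ext fun v => Subtype.ext (by
    simp only [map_mul, Module.End.mul_apply]
    rfl)

theorem fixRep_apply (ρ : Representation ℂ G V) (l : ι) (h : SpecialLinearGroup {i // i ≠ l} F)
    (v : (transRep ρ l).invariants) : ((fixRep ρ l h) v : V) = ρ (lev F l h) v := rfl

/-- A vector fixed by the translations and the Levi complement is fixed by the stabiliser of the basis vector. -/
theorem exists_stab_fixed (ρ : Representation ℂ G V) (l : ι) (hne : (fixRep ρ l).invariants ≠ ⊥) :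
    ∃ w : V, w ≠ 0 ∧ ∀ g : G, g.1 *ᵥ Pi.single l 1 = Pi.single l 1 → ρ g w = w := by
  obtain ⟨w, hw, hw0⟩ := Submodule.exists_mem_ne_zero_of_ne_bot hne
  refine ⟨w.1, fun h => hw0 (Subtype.ext h), fun g hg => ?_⟩
  obtain ⟨h, a, rfl⟩ := exists_lev_mul hg
  rw [map_mul, Module.End.mul_apply, show ρ (transC F l (Multiplicative.ofAdd a)) w.1 = w.1 from w.2 _]
  exact congrArg Subtype.val (hw h)

end Rep

/-- The degrees of the non-principal irreducible characters. -/
def IsDeg (H : Type u) [Group H] (k : ℕ) : Prop :=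
  ∃ χ : H → ℂ, IsIrrCharacter H χ ∧ χ ≠ (fun _ => 1) ∧ χ 1 = k

theorem IsDeg.of_mulEquiv {H H' : Type u} [Group H] [Group H'] (e : H ≃* H') {k : ℕ} (h : IsDeg H k) :
    IsDeg H' k := by
  obtain ⟨χ, hχ, hne, hk⟩ := h
  refine ⟨fun g => χ (e.symm g), hχ.comp_surjective (e.symm : H' →* H) e.symm.surjective, fun h1 => hne ?_,
    by simpa using hk⟩
  funext g
  simpa using congrFun h1 (e g)

theorem IsDeg.pos {H : Type u} [Group H] [Finite H] {k : ℕ} (h : IsDeg H k) : 0 < k := by
  obtain ⟨χ, hχ, -, hk⟩ := h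
  refine Nat.pos_of_ne_zero fun h0 => hχ.apply_one_ne_zero ?_
  rw [hk, h0, Nat.cast_zero]

theorem degree_split {H : Type u} [Group H] [Fintype H] {ψ : H → ℂ} (hψ : IsCharacter H ψ) {d : ℕ} (hd : ψ 1 = d)
    (h1 : classInner ψ (fun _ => 1) = 0) :
    d = 0 ∨ ∃ k, IsDeg H k ∧ (k = d ∨ ∃ k', IsDeg H k' ∧ k + k' ≤ d) := by
  classical
  obtain ⟨s, rfl⟩ := hψ.exists_multiset
  have hsum : ∀ t : Multiset (IrrCharacter H), IsCharacter H (t.map fun χ : IrrCharacter H => (χ : H → ℂ)).sum := by
    intro t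
    induction t using Multiset.induction with
    | empty => simpa using (isCharacter_zero : IsCharacter H 0)
    | cons χ t ih => rw [Multiset.map_cons, Multiset.sum_cons]; exact χ.2.isCharacter.add ih
  have hne : ∀ χ ∈ s, (χ : H → ℂ) ≠ fun _ => 1 := by
    intro χ hχ e
    obtain ⟨t, rfl⟩ := Multiset.exists_cons_of_mem hχ
    obtain ⟨m, hm⟩ := (hsum t).exists_nat_classInner isCharacter_one
    rw [Multiset.map_cons, Multiset.sum_cons, classInner_add_left, hm, e, classInner_irr_self isIrrCharacter_one] at h1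
    exact Nat.succ_ne_zero m (by exact_mod_cast (show (m : ℂ) + 1 = 0 by rw [add_comm, h1]))
  have hdeg : ∀ χ ∈ s, ∃ k, IsDeg H k ∧ (χ : H → ℂ) 1 = k := fun χ hχ => by
    obtain ⟨k, hk⟩ := χ.2.isCharacter.exists_degree
    exact ⟨k, ⟨_, χ.2, hne χ hχ, hk⟩, hk⟩
  rcases Multiset.empty_or_exists_mem s with rfl | ⟨χ, hχ⟩
  · left
    simp at hd
    exact_mod_cast hd.symm
  right
  obtain ⟨k, hk, hkχ⟩ := hdeg χ hχ
  obtain ⟨t, rfl⟩ := Multiset.exists_cons_of_mem hχ
  rcases Multiset.empty_or_exists_mem t with rfl | ⟨χ', hχ'⟩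
  · refine ⟨k, hk, Or.inl ?_⟩
    simp [hkχ] at hd
    exact_mod_cast hd
  · obtain ⟨k', hk', hkχ'⟩ := hdeg χ' (Multiset.mem_cons_of_mem hχ')
    obtain ⟨u, rfl⟩ := Multiset.exists_cons_of_mem hχ'
    obtain ⟨m, hm⟩ := (hsum u).exists_degree
    refine ⟨k, hk, Or.inr ⟨k', hk', ?_⟩⟩
    simp only [Multiset.map_cons, Multiset.sum_cons, Pi.add_apply, hkχ, hkχ', hm] at hd
    have : k + (k' + m) = d := by exact_mod_cast hd
    omega

end Cfsg.Lib.Linear.MinDegree
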