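import Cfsg.Agent.Lib.Linear.MinDegree.Levi
import Cfsg.Agent.Lib.Linear.SLPerfect

/-!
# The fixed space of the translations is large

If every non-principal character of the transvections with centre a point, and of those with axis a hyperplane
through it, occurs once, then the two groups have a common isotypic vector only for characters one of which is
principal, so the fixed space has dimension at least `q ^ (n - 2) - 1`.
-/

set_option autoImplicit false

namespace Cfsg.Lib.Linear.MinDegree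

open Matrix Cfsg.Lib.Linear Cfsg.Lib.Linear.MinIndex Cfsg.Lib.Linear.CrossChar Cfsg.Lib.Linear.AutPSL
open scoped MatrixGroups

universe u v

variable {ι : Type} [Fintype ι] [DecidableEq ι] {F : Type u} [Field F]

local notation "G" => SpecialLinearGroup ι F

/-- The parameters outside the four exceptions. -/
def Generic (n q : ℕ) : Prop := (n, q) ≠ (3, 2) ∧ (n, q) ≠ (3, 4) ∧ (n, q) ≠ (4, 2) ∧ (n, q) ≠ (4, 3)

theorem exists_torus {l r i : ι} (hlr : l ≠ r) {w b : ι → F} (hwr : w r = 0) (hbl : b l = 0)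
    (hbr : b r = 0) (hbi : b i ≠ 0) {μ ν γ : F} (hμ : μ ≠ 0) (hν : ν ≠ 0)
    (hdet : μ ^ (Fintype.card ι - 1) * ν * γ = μ) (hw : γ = μ ∨ b ⬝ᵥ w = 0) (hne : γ ≠ ν) :
    ∃ (g : G) (μ ν : F), μ ≠ 0 ∧ ν ≠ 0 ∧ g.1 *ᵥ Pi.single l 1 = μ • Pi.single l 1 ∧
      (Pi.single r 1 : ι → F) ᵥ* g.1 = ν • Pi.single r 1 ∧ g.1 *ᵥ w = μ • w ∧
      ∃ j, j ≠ r ∧ (b ᵥ* g.1) j ≠ ν * b j := by
  have hir : i ≠ r := by rintro rfl; exact hbi hbr
  set D : Matrix ι ι F := diagonal (Function.update (fun _ => μ) r ν) with hD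
  set z : ι → F := Pi.single i (b i)⁻¹ with hz
  set c : F := (γ - μ) / μ with hc
  have hbz : b ⬝ᵥ z = 1 := by rw [hz, dotProduct_single, mul_inv_cancel₀ hbi]
  have hDv : ∀ x : ι → F, x r = 0 → D *ᵥ x = μ • x := fun x hx => funext fun k => by
    rw [hD, mulVec_diagonal, Pi.smul_apply, smul_eq_mul]
    by_cases hk : k = r
    · subst hk; rw [hx, mul_zero, mul_zero]
    · rw [Function.update_of_ne hk]
  have hb : b ᵥ* D = μ • b := funext fun k => by
    rw [hD, vecMul_diagonal, Pi.smul_apply, smul_eq_mul, mul_comm]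
    by_cases hk : k = r
    · subst hk; rw [hbr, mul_zero, mul_zero]
    · rw [Function.update_of_ne hk]
  have hdet1 : (D * tvMat z (c • b)).det = 1 := by
    rw [det_mul, det_tvMat, smul_dotProduct, hbz, smul_eq_mul, mul_one, hD, det_diagonal,
      Finset.prod_update_of_mem (Finset.mem_univ r), Finset.prod_const,
      Finset.card_sdiff_of_subset (Finset.subset_univ _), Finset.card_univ, Finset.card_singleton, hc]
    field_simp
    linear_combination hdet
  have hvec : ∀ x : ι → F, (c • b) ⬝ᵥ x = 0 → x r = 0 → (D * tvMat z (c • b)) *ᵥ x = μ • x := fun x h1 h2 => by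
    rw [← mulVec_mulVec, tvMat_mulVec, h1, zero_smul, add_zero, hDv x h2]
  refine ⟨⟨_, hdet1⟩, μ, ν, hμ, hν, hvec _ ?_ (Pi.single_eq_of_ne hlr.symm _), ?_, hvec w ?_ hwr, i, hir, ?_⟩
  · rw [smul_dotProduct, dotProduct_single, hbl, zero_mul, smul_zero]
  · show (Pi.single r 1 : ι → F) ᵥ* (D * tvMat z (c • b)) = _
    have h1 : (Pi.single r 1 : ι → F) ᵥ* D = ν • Pi.single r 1 := funext fun k => by
      rw [hD, vecMul_diagonal, Pi.smul_apply, smul_eq_mul]
      by_cases hk : k = r
      · subst hk; rw [Function.update_self, mul_comm]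
      · rw [Pi.single_eq_of_ne hk, mul_zero, zero_mul]
    rw [← vecMul_vecMul, h1, tvMat, Matrix.vecMul_add, Matrix.vecMul_one, Matrix.vecMul_vecMulVec, smul_dotProduct,
      single_dotProduct, hz, Pi.single_eq_of_ne hir.symm, mul_zero, smul_zero, zero_smul, add_zero]
  · rcases hw with hw | hw
    · rw [hc, hw, sub_self, zero_div, zero_smul, zero_dotProduct]
    · rw [smul_dotProduct, hw, smul_zero]
  · show (b ᵥ* (D * tvMat z (c • b))) i ≠ ν * b i
    rw [← vecMul_vecMul, hb, tvMat, Matrix.vecMul_add, Matrix.vecMul_one, Matrix.vecMul_vecMulVec, smul_dotProduct, hbz]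
    intro h
    refine hne (mul_right_cancel₀ hbi ?_)
    rw [← h]
    simp only [Pi.add_apply, Pi.smul_apply, smul_eq_mul, mul_one, hc]
    field_simp
    ring

theorem exists_transv {l r : ι} {w b u c : ι → F} (hcu : c ⬝ᵥ u = 0) (hcl : c l = 0) (hur : u r = 0) (hcr : c r = 0)
    (hcw : c ⬝ᵥ w = 0) (hbu : b ⬝ᵥ u ≠ 0) (hc : c ≠ 0) :
    ∃ (g : G) (μ ν : F), μ ≠ 0 ∧ ν ≠ 0 ∧ g.1 *ᵥ Pi.single l 1 = μ • Pi.single l 1 ∧
      (Pi.single r 1 : ι → F) ᵥ* g.1 = ν • Pi.single r 1 ∧ g.1 *ᵥ w = μ • w ∧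
      ∃ j, j ≠ r ∧ (b ᵥ* g.1) j ≠ ν * b j := by
  obtain ⟨j, hj⟩ := Function.ne_iff.1 hc
  refine ⟨tau u c, 1, 1, one_ne_zero, one_ne_zero, ?_, ?_, ?_, j, fun e => hj (e ▸ hcr), ?_⟩
  · rw [mulVec_tau hcu, dotProduct_single, hcl, zero_mul, zero_smul, add_zero, one_smul]
  · rw [vecMul_tau hcu, single_dotProduct, hur, mul_zero, zero_smul, add_zero, one_smul]
  · rw [mulVec_tau hcu, hcw, zero_smul, add_zero, one_smul]
  · rw [vecMul_tau hcu, one_mul, Pi.add_apply, Pi.smul_apply, smul_eq_mul]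
    intro h
    exact mul_ne_zero hbu hj (add_eq_left.1 h)

/-- An element of the common normaliser that fixes one character and moves the other. -/
theorem exists_mover [Fintype F] (hι : 3 ≤ Fintype.card ι) (hq : Generic (Fintype.card ι) (Fintype.card F)) {l r : ι}
    (hlr : l ≠ r) {w b : ι → F} (hwl : w l = 0) (hwr : w r = 0) (hw : w ≠ 0) (hbl : b l = 0) (hbr : b r = 0)
    (hb : b ≠ 0) :
    ∃ (g : G) (μ ν : F), μ ≠ 0 ∧ ν ≠ 0 ∧ g.1 *ᵥ Pi.single l 1 = μ • Pi.single l 1 ∧
      (Pi.single r 1 : ι → F) ᵥ* g.1 = ν • Pi.single r 1 ∧ g.1 *ᵥ w = μ • w ∧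
      ∃ j, j ≠ r ∧ (b ᵥ* g.1) j ≠ ν * b j := by
  obtain ⟨i, hbi⟩ := Function.ne_iff.1 hb
  have hil : i ≠ l := by rintro rfl; exact hbi hbl
  have hir : i ≠ r := by rintro rfl; exact hbi hbr
  rcases (by omega : Fintype.card ι = 3 ∨ Fintype.card ι = 4 ∨ 5 ≤ Fintype.card ι) with h | h | h
  · obtain ⟨μ, hμ⟩ : ∃ μ : Fˣ, μ ^ 3 ≠ 1 := by
      by_contra hno
      push Not at hno
      have h3 := (FiniteField.forall_pow_eq_one_iff F 3).1 hno
      have := Nat.le_of_dvd (by norm_num) h3
      have := Fintype.one_lt_card (α := F)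
      obtain ⟨h1, h2, -, -⟩ := hq
      rcases (by omega : Fintype.card F = 2 ∨ Fintype.card F = 3 ∨ Fintype.card F = 4) with e | e | e
      · exact h1 (by rw [h, e])
      · rw [e] at h3; norm_num at h3
      · exact h2 (by rw [h, e])
    refine exists_torus hlr hwr hbl hbr hbi (μ := (μ : F)) (ν := ((μ : F) ^ 2)⁻¹) (γ := (μ : F)) μ.ne_zero
      (inv_ne_zero (pow_ne_zero _ μ.ne_zero)) ?_ (Or.inl rfl) fun e => hμ (Units.ext ?_)
    · rw [h]; field_simp
    · rw [Units.val_pow_eq_pow_val, Units.val_one, pow_succ]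
      conv_lhs => rhs; rw [e]
      rw [mul_inv_cancel₀ (pow_ne_zero _ μ.ne_zero)]
  · by_cases hbw : b ⬝ᵥ w = 0
    · have h4 : 4 ≤ Fintype.card F := by
        obtain ⟨-, -, h1, h2⟩ := hq
        have := Fintype.one_lt_card (α := F)
        rcases (by omega : Fintype.card F = 2 ∨ Fintype.card F = 3 ∨ 4 ≤ Fintype.card F) with e | e | e
        · exact absurd (by rw [h, e]) h1
        · exact absurd (by rw [h, e]) h2
        · exact e
      obtain ⟨μ, hμ, hμ2⟩ := exists_sq_ne_one (F := F) h4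
      refine exists_torus hlr hwr hbl hbr hbi (μ := μ) (ν := 1) (γ := (μ ^ 2)⁻¹) hμ one_ne_zero ?_ (Or.inr hbw) ?_
      · rw [h]; field_simp
      · intro e
        exact hμ2 (by rw [← sq, ← inv_inv (μ ^ 2), e, inv_one])
    · have hmid : (Finset.univ \ {l, r}).card = 2 := by
        rw [Finset.card_sdiff_of_subset (Finset.subset_univ _), Finset.card_univ, Finset.card_pair hlr, h]
      obtain ⟨x, y, hxy, hxyS⟩ := Finset.card_eq_two.1 hmid
      have hmem : ∀ k, k ≠ l → k ≠ r → k = x ∨ k = y := fun k h1 h2 => by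
        have : k ∈ Finset.univ \ {l, r} := by simp [h1, h2]
        rw [hxyS] at this
        simpa using this
      have hxm : x ≠ l ∧ x ≠ r := by
        have : x ∈ Finset.univ \ {l, r} := by rw [hxyS]; simp
        simpa using this
      have hym : y ≠ l ∧ y ≠ r := by
        have : y ∈ Finset.univ \ {l, r} := by rw [hxyS]; simp
        simpa using this
      have hcw : (Pi.single x (w y) - Pi.single y (w x) : ι → F) ⬝ᵥ w = 0 := by
        rw [sub_dotProduct, single_dotProduct, single_dotProduct, mul_comm, sub_self]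
      refine exists_transv (u := w) (c := Pi.single x (w y) - Pi.single y (w x)) hcw ?_ hwr ?_ hcw hbw ?_
      · simp [Pi.single_eq_of_ne hxm.1.symm, Pi.single_eq_of_ne hym.1.symm]
      · simp [Pi.single_eq_of_ne hxm.2.symm, Pi.single_eq_of_ne hym.2.symm]
      · intro h0
        refine hw (funext fun k => ?_)
        have hx := congrFun h0 x
        have hy := congrFun h0 y
        simp [Pi.single_eq_of_ne hxy, Pi.single_eq_of_ne hxy.symm] at hx hy
        by_cases hk1 : k = l
        · rw [hk1]; exact hwl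
        by_cases hk2 : k = r
        · rw [hk2]; exact hwr
        rcases hmem k hk1 hk2 with rfl | rfl
        · exact hy
        · exact hx
  · have hmid : 1 < (Finset.univ \ {l, r, i}).card := by
      rw [Finset.card_sdiff_of_subset (Finset.subset_univ _), Finset.card_univ]
      have : ({l, r, i} : Finset ι).card ≤ 3 := Finset.card_le_three
      omega
    obtain ⟨j, hj, k, hk, hjk⟩ := Finset.one_lt_card.1 hmid
    simp only [Finset.mem_sdiff, Finset.mem_univ, true_and, Finset.mem_insert, Finset.mem_singleton, not_or] at hj hk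
    have hbu : b ⬝ᵥ (Pi.single i 1 : ι → F) ≠ 0 := by rwa [dotProduct_single, mul_one]
    have hur : (Pi.single i 1 : ι → F) r = 0 := Pi.single_eq_of_ne hir.symm _
    by_cases hwjk : w j = 0 ∧ w k = 0
    · refine exists_transv (u := Pi.single i 1) (c := Pi.single j 1) ?_ ?_ hur ?_ ?_ hbu ?_
      · rw [single_dotProduct, Pi.single_eq_of_ne hj.2.2, mul_zero]
      · exact Pi.single_eq_of_ne (Ne.symm hj.1) _
      · exact Pi.single_eq_of_ne (Ne.symm hj.2.1) _
      · rw [single_dotProduct, hwjk.1, mul_zero]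
      · exact Pi.single_ne_zero_iff.2 one_ne_zero
    · refine exists_transv (u := Pi.single i 1) (c := Pi.single j (w k) - Pi.single k (w j)) ?_ ?_ hur ?_ ?_ hbu ?_
      · rw [sub_dotProduct, single_dotProduct, single_dotProduct, Pi.single_eq_of_ne hj.2.2, Pi.single_eq_of_ne hk.2.2,
          mul_zero, mul_zero, sub_zero]
      · simp [Pi.single_eq_of_ne (Ne.symm hj.1), Pi.single_eq_of_ne (Ne.symm hk.1)]
      · simp [Pi.single_eq_of_ne (Ne.symm hj.2.1), Pi.single_eq_of_ne (Ne.symm hk.2.1)]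
      · rw [sub_dotProduct, single_dotProduct, single_dotProduct, mul_comm, sub_self]
      · intro h0
        have hx := congrFun h0 j
        have hy := congrFun h0 k
        simp [Pi.single_eq_of_ne hjk, Pi.single_eq_of_ne hjk.symm] at hx hy
        exact hwjk ⟨hy, hx⟩

/-- The character attached to a vector. -/
noncomputable def pairChar (ψ : AddChar F ℂ) {l : ι} (w : {i // i ≠ l} → F) : AddChar ({i // i ≠ l} → F) ℂ where
  toFun a := ψ (a ⬝ᵥ w)
  map_zero_eq_one' := by rw [zero_dotProduct, AddChar.map_zero_eq_one]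
  map_add_eq_mul' a b := by rw [add_dotProduct, AddChar.map_add_eq_mul]

theorem pairChar_apply (ψ : AddChar F ℂ) {l : ι} (w a : {i // i ≠ l} → F) :
    pairChar ψ w a = ψ (ext0 a ⬝ᵥ ext0 w) := by
  rw [ext0_dot, show (fun i : {i // i ≠ l} => ext0 w i.val) = w from funext fun i => ext0_apply w i]
  rfl

theorem pairChar_zero (ψ : AddChar F ℂ) {l : ι} : pairChar ψ (0 : {i // i ≠ l} → F) = 1 :=
  DFunLike.ext _ _ fun a => by
    show ψ (a ⬝ᵥ 0) = 1
    rw [dotProduct_zero, AddChar.map_zero_eq_one]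

theorem pairChar_injective {ψ : AddChar F ℂ} (hψ : ψ ≠ 1) {l : ι} :
    Function.Injective (pairChar ψ : ({i // i ≠ l} → F) → AddChar ({i // i ≠ l} → F) ℂ) := by
  intro w w' h
  funext i
  by_contra hne
  refine hψ (DFunLike.ext _ _ fun x => ?_)
  have hδ : w i - w' i ≠ 0 := sub_ne_zero.2 hne
  have h1 : ψ (Pi.single i (x / (w i - w' i)) ⬝ᵥ w) = ψ (Pi.single i (x / (w i - w' i)) ⬝ᵥ w') :=
    DFunLike.congr_fun h _
  rw [single_dotProduct, single_dotProduct] at h1
  have e : x / (w i - w' i) * w i = x + x / (w i - w' i) * w' i := by field_simp; ring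
  rw [e, AddChar.map_add_eq_mul, mul_eq_right₀] at h1
  · rw [h1, AddChar.one_apply]
  · intro h0
    have := AddChar.map_add_eq_mul ψ (x / (w i - w' i) * w' i) (-(x / (w i - w' i) * w' i))
    rw [add_neg_cancel, AddChar.map_zero_eq_one, h0, zero_mul] at this
    exact one_ne_zero this

variable [Fintype F] [DecidableEq F] {V : Type v} [AddCommGroup V] [Module ℂ V]

omit [Fintype F] in
theorem rep_conj (ρ : Representation ℂ G V) (g : G) {x y : G} (h : g * x * g⁻¹ = y) :
    ρ g * ρ x * ρ g⁻¹ = ρ y := by rw [← map_mul, ← map_mul, h]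

theorem commute_transA (ρ : Representation ℂ G V) {l r : ι} (hlr : l ≠ r) (ψ : AddChar F ℂ)
    {w : {i // i ≠ l} → F} (hw : w ⟨r, hlr.symm⟩ = 0) (v : {i // i ≠ r} → F) :
    ρ (transA F r (Multiplicative.ofAdd v)) * proj (ρ.comp (transC F l)) (pairChar ψ w) =
      proj (ρ.comp (transC F l)) (pairChar ψ w) * ρ (transA F r (Multiplicative.ofAdd v)) := by
  set g := transA F r (Multiplicative.ofAdd v)
  have hfu : (Pi.single r 1 : ι → F) ⬝ᵥ ext0 v = 0 := by rw [dotProduct_comm, ext0_perp]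
  let L : ({i // i ≠ l} → F) → ({i // i ≠ l} → F) := fun a => (ext0 a ⬝ᵥ ext0 v) • Pi.single ⟨r, hlr.symm⟩ 1
  have hext : ∀ a, ext0 (L a) = (ext0 a ⬝ᵥ ext0 v) • (Pi.single r 1 : ι → F) := fun a => by
    funext i
    by_cases hi : i ≠ l
    · simp [ext0, L, hi, Pi.single_apply]
    · rw [not_ne_iff] at hi; subst hi
      simp [ext0, Pi.single_eq_of_ne hlr]
  have hLv : ∀ a, ext0 (L a) ⬝ᵥ ext0 v = 0 := fun a => by rw [hext, smul_dotProduct, hfu, smul_zero]
  have hsub : ∀ a b : {i // i ≠ l} → F, ext0 (a - b) = ext0 a - ext0 b := fun a b => by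
    rw [eq_sub_iff_add_eq, ← ext0_add, sub_add_cancel]
  refine commute_proj (ρ.comp (transC F l)) (A := ρ g) (B := ρ g⁻¹)
    (by rw [← map_mul, inv_mul_cancel, map_one])
    { toFun := fun a => a - L a
      invFun := fun a => a + L a
      left_inv := fun a => by
        have e : L (a - L a) = L a := by
          simp only [L]
          rw [hsub, sub_dotProduct, hLv, sub_zero]
        simp only
        rw [e, sub_add_cancel]
      right_inv := fun a => by
        have e : L (a + L a) = L a := by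
          simp only [L]
          rw [ext0_add, add_dotProduct, hLv, add_zero]
        simp only
        rw [e, add_sub_cancel_right] }
    (fun a => rep_conj ρ g ?_) (pairChar ψ w) fun a => ?_
  · rw [transC_apply, transC_apply, conj_tau' g (ext0_perp a)]
    simp only [g, transA_apply, Equiv.coe_fn_mk]
    rw [mulVec_tau hfu, single_dotProduct, Pi.single_eq_of_ne hlr.symm, mul_zero, zero_smul, add_zero, tau_inv hfu,
      vecMul_tau (by rw [neg_dotProduct, hfu, neg_zero]), smul_neg, hsub, hext, sub_eq_add_neg]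
  · show ψ _ = ψ _
    congr 1
    simp only [Equiv.coe_fn_mk, neg_dotProduct, sub_dotProduct, L, smul_dotProduct, single_dotProduct, one_mul, hw,
      smul_zero, sub_zero]

theorem commute_transC (ρ : Representation ℂ G V) {l r : ι} (hlr : l ≠ r) (ψ : AddChar F ℂ)
    {b : {i // i ≠ r} → F} (hb : b ⟨l, hlr⟩ = 0) (a : {i // i ≠ l} → F) :
    ρ (transC F l (Multiplicative.ofAdd a)) * proj (ρ.comp (transA F r)) (pairChar ψ b) =
      proj (ρ.comp (transA F r)) (pairChar ψ b) * ρ (transC F l (Multiplicative.ofAdd a)) := by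
  set g := transC F l (Multiplicative.ofAdd a)
  let L : ({i // i ≠ r} → F) → ({i // i ≠ r} → F) := fun v => (ext0 a ⬝ᵥ ext0 v) • Pi.single ⟨l, hlr⟩ 1
  have hext : ∀ v, ext0 (L v) = (ext0 a ⬝ᵥ ext0 v) • (Pi.single l 1 : ι → F) := fun v => by
    funext i
    by_cases hi : i ≠ r
    · simp [ext0, L, hi, Pi.single_apply]
    · rw [not_ne_iff] at hi; subst hi
      simp [ext0, Pi.single_eq_of_ne hlr.symm]
  have hLv : ∀ v, ext0 a ⬝ᵥ ext0 (L v) = 0 := fun v => by rw [hext, dotProduct_smul, ext0_perp, smul_zero]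
  refine commute_proj (ρ.comp (transA F r)) (A := ρ g) (B := ρ g⁻¹)
    (by rw [← map_mul, inv_mul_cancel, map_one])
    { toFun := fun v => v + L v
      invFun := fun v => v - L v
      left_inv := fun v => by
        have e : L (v + L v) = L v := by
          simp only [L]
          rw [ext0_add, dotProduct_add, hLv, add_zero]
        simp only
        rw [e, add_sub_cancel_right]
      right_inv := fun v => by
        have e : L (v - L v) = L v := by
          simp only [L]
          rw [show ext0 (v - L v) = ext0 v - ext0 (L v) by rw [eq_sub_iff_add_eq, ← ext0_add, sub_add_cancel],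
            dotProduct_sub, hLv, sub_zero]
        simp only
        rw [e, sub_add_cancel] }
    (fun v => rep_conj ρ g ?_) (pairChar ψ b) fun v => ?_
  · have hfu : (Pi.single r 1 : ι → F) ⬝ᵥ ext0 v = 0 := by rw [dotProduct_comm, ext0_perp]
    rw [transA_apply, transA_apply, conj_tau' g hfu]
    simp only [g, transC_apply, Equiv.coe_fn_mk]
    rw [mulVec_tau (ext0_perp a), tau_inv (ext0_perp a), vecMul_tau (by rw [neg_dotProduct, ext0_perp, neg_zero]),
      single_dotProduct, Pi.single_eq_of_ne hlr.symm, mul_zero, zero_smul, add_zero, ext0_add, hext]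
  · show ψ _ = ψ _
    congr 1
    simp only [Equiv.coe_fn_mk, neg_dotProduct, add_dotProduct, L, smul_dotProduct, single_dotProduct, one_mul, hb,
      smul_zero, add_zero]

theorem proj_mul_proj_eq_zero (ρ : Representation ℂ G V) {l r : ι} (hlr : l ≠ r) {ψ : AddChar F ℂ} (hψ : ψ ≠ 1)
    {w : {i // i ≠ l} → F} (hw : w ⟨r, hlr.symm⟩ ≠ 0) {b : {i // i ≠ r} → F} (hb : b ⟨l, hlr⟩ = 0) :
    proj (ρ.comp (transC F l)) (pairChar ψ w) * proj (ρ.comp (transA F r)) (pairChar ψ b) = 0 := by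
  obtain ⟨c, hc⟩ : ∃ c, ψ (c * w ⟨r, hlr.symm⟩) ≠ 1 := by
    by_contra hno
    push Not at hno
    refine hψ (DFunLike.ext _ _ fun x => ?_)
    rw [AddChar.one_apply, ← hno (x / w ⟨r, hlr.symm⟩), div_mul_cancel₀ _ hw]
  set z : {i // i ≠ l} → F := Pi.single ⟨r, hlr.symm⟩ c
  set z' : {i // i ≠ r} → F := Pi.single ⟨l, hlr⟩ c
  have he1 : ext0 z = Pi.single r c := by
    funext i
    by_cases hi : i ≠ l
    · simp [ext0, z, hi, Pi.single_apply]
    · rw [not_ne_iff] at hi; subst hi
      simp [ext0, Pi.single_eq_of_ne hlr]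
  have he2 : ext0 z' = Pi.single l c := by
    funext i
    by_cases hi : i ≠ r
    · simp [ext0, z', hi, Pi.single_apply]
    · rw [not_ne_iff] at hi; subst hi
      simp [ext0, Pi.single_eq_of_ne hlr.symm]
  have hz : transC F l (Multiplicative.ofAdd z) = transA F r (Multiplicative.ofAdd z') := by
    rw [transC_apply, transA_apply, he1, he2,
      show (Pi.single l c : ι → F) = c • Pi.single l 1 by rw [← Pi.single_smul, smul_eq_mul, mul_one],
      tau_smul c (by rw [single_dotProduct, Pi.single_eq_of_ne hlr.symm, mul_zero]), ← Pi.single_smul, smul_eq_mul,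
      mul_one]
  have h1 := proj_mul_R (ρ.comp (transC F l)) (pairChar ψ w) z
  have h2 := R_mul_proj (ρ.comp (transA F r)) (pairChar ψ b) z'
  simp only [MonoidHom.coe_comp, Function.comp_apply, hz] at h1 h2
  rw [show pairChar ψ b z' = 1 by
    show ψ (z' ⬝ᵥ b) = 1
    rw [single_dotProduct, hb, mul_zero, AddChar.map_zero_eq_one], one_smul] at h2
  rw [show pairChar ψ w z = ψ (c * w ⟨r, hlr.symm⟩) by
    show ψ (z ⬝ᵥ w) = _
    rw [single_dotProduct]] at h1
  have h3 := congrArg (proj (ρ.comp (transC F l)) (pairChar ψ w) * ·) h2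
  simp only [← mul_assoc, h1, smul_mul_assoc] at h3
  by_contra h0
  exact hc (smul_left_injective ℂ h0 (h3.trans (one_smul ℂ _).symm))

theorem exists_conj_pair (ρ : Representation ℂ G V) (hι : 3 ≤ Fintype.card ι)
    (hq : Generic (Fintype.card ι) (Fintype.card F)) {l r : ι} (hlr : l ≠ r) (ψ : AddChar F ℂ)
    {w : {i // i ≠ l} → F} (hw : w ⟨r, hlr.symm⟩ = 0) (hw0 : w ≠ 0) {b : {i // i ≠ r} → F} (hb : b ⟨l, hlr⟩ = 0)
    (hb0 : b ≠ 0) :
    ∃ b' : {i // i ≠ r} → F, b' ≠ b ∧ ∃ A B : Module.End ℂ V, B * A = 1 ∧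
      A * (proj (ρ.comp (transC F l)) (pairChar ψ w) * proj (ρ.comp (transA F r)) (pairChar ψ b)) * B =
        proj (ρ.comp (transC F l)) (pairChar ψ w) * proj (ρ.comp (transA F r)) (pairChar ψ b') := by
  obtain ⟨g, μ, ν, hμ, hν, hge, hgf, hgw, j, hjr, hj⟩ := exists_mover hι hq hlr (w := ext0 w) (b := ext0 b)
    (ext0_self w) (by rw [← hw]; exact ext0_apply w ⟨r, hlr.symm⟩) (ext0_ne_zero hw0)
    (by rw [← hb]; exact ext0_apply b ⟨l, hlr⟩) (ext0_self b) (ext0_ne_zero hb0)
  have hgie : (g⁻¹).1 *ᵥ Pi.single l 1 = μ⁻¹ • Pi.single l 1 := by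
    have := congrArg ((g⁻¹).1 *ᵥ ·) hge
    simp only [inv_mulVec, mulVec_smul] at this
    exact (inv_smul_eq_iff₀ hμ).2 this |>.symm
  have hgfi : (Pi.single r 1 : ι → F) ᵥ* (g⁻¹).1 = ν⁻¹ • Pi.single r 1 := by
    have := vecMul_inv hgf
    rw [smul_vecMul] at this
    exact ((inv_smul_eq_iff₀ hν).2 this.symm).symm
  have hgwi : (g⁻¹).1 *ᵥ ext0 w = μ⁻¹ • ext0 w := by
    have := congrArg ((g⁻¹).1 *ᵥ ·) hgw
    simp only [inv_mulVec, mulVec_smul] at this
    exact (inv_smul_eq_iff₀ hμ).2 this |>.symm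
  have hl1 : ∀ a : {i // i ≠ l} → F, (ext0 a ᵥ* (g⁻¹).1) l = 0 := fun a => by
    have : (ext0 a ᵥ* (g⁻¹).1) ⬝ᵥ Pi.single l 1 = 0 := by
      rw [← dotProduct_mulVec, hgie, dotProduct_smul, ext0_perp, smul_zero]
    rwa [dotProduct_single, mul_one] at this
  have hl2 : ∀ a : {i // i ≠ l} → F, (ext0 a ᵥ* g.1) l = 0 := fun a => by
    have : (ext0 a ᵥ* g.1) ⬝ᵥ Pi.single l 1 = 0 := by
      rw [← dotProduct_mulVec, hge, dotProduct_smul, ext0_perp, smul_zero]
    rwa [dotProduct_single, mul_one] at this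
  have hr1 : ∀ v : {i // i ≠ r} → F, ((g.1 *ᵥ ext0 v) r) = 0 := fun v => by
    have : (Pi.single r 1 : ι → F) ⬝ᵥ (g.1 *ᵥ ext0 v) = 0 := by
      rw [dotProduct_mulVec, hgf, smul_dotProduct, dotProduct_comm, ext0_perp, smul_zero]
    rwa [single_dotProduct, one_mul] at this
  have hr2 : ∀ v : {i // i ≠ r} → F, (((g⁻¹).1 *ᵥ ext0 v) r) = 0 := fun v => by
    have : (Pi.single r 1 : ι → F) ⬝ᵥ ((g⁻¹).1 *ᵥ ext0 v) = 0 := by
      rw [dotProduct_mulVec, hgfi, smul_dotProduct, dotProduct_comm, ext0_perp, smul_zero]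
    rwa [single_dotProduct, one_mul] at this
  have hsmul : ∀ {m : ι} (c : F) (a : {i // i ≠ m} → F), ext0 (c • a) = c • ext0 a := fun c a => by
    funext i; simp [ext0]
  let σ : ({i // i ≠ l} → F) ≃ ({i // i ≠ l} → F) :=
    { toFun := fun a => μ • fun i => (ext0 a ᵥ* (g⁻¹).1) i.val
      invFun := fun a => μ⁻¹ • fun i => (ext0 a ᵥ* g.1) i.val
      left_inv := fun a => by
        simp only [hsmul, restrict_ext0 (hl1 a)]
        funext i
        simp only [Pi.smul_apply, smul_vecMul, vecMul_vecMul, inv_mul_val, vecMul_one, ext0_apply, smul_smul]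
        rw [inv_mul_cancel₀ hμ, one_smul]
      right_inv := fun a => by
        simp only [hsmul, restrict_ext0 (hl2 a)]
        funext i
        simp only [Pi.smul_apply, smul_vecMul, vecMul_vecMul, mul_inv_val, vecMul_one, ext0_apply, smul_smul]
        rw [mul_inv_cancel₀ hμ, one_smul] }
  let τ : ({i // i ≠ r} → F) ≃ ({i // i ≠ r} → F) :=
    { toFun := fun v => ν⁻¹ • fun i => (g.1 *ᵥ ext0 v) i.val
      invFun := fun v => ν • fun i => ((g⁻¹).1 *ᵥ ext0 v) i.val
      left_inv := fun v => by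
        simp only [hsmul, restrict_ext0 (hr1 v)]
        funext i
        simp only [Pi.smul_apply, mulVec_smul, inv_mulVec, ext0_apply, smul_smul]
        rw [mul_inv_cancel₀ hν, one_smul]
      right_inv := fun v => by
        simp only [hsmul, restrict_ext0 (hr2 v)]
        funext i
        simp only [Pi.smul_apply, mulVec_smul, mulVec_mulVec, mul_inv_val, one_mulVec, ext0_apply, smul_smul]
        rw [inv_mul_cancel₀ hν, one_smul] }
  refine ⟨fun i => ν * (ext0 b ᵥ* (g⁻¹).1) i.val, fun h => hj ?_, ρ g, ρ g⁻¹,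
    by rw [← map_mul, inv_mul_cancel, map_one], ?_⟩
  · have e : ext0 b ᵥ* (g⁻¹).1 = ν⁻¹ • ext0 b + (ext0 b ᵥ* (g⁻¹).1) r • Pi.single r 1 := by
      funext i
      by_cases hi : i ≠ r
      · have := congrFun h ⟨i, hi⟩
        simp only at this
        rw [Pi.add_apply, Pi.smul_apply, Pi.smul_apply, Pi.single_eq_of_ne hi, smul_zero, add_zero, smul_eq_mul,
          ext0_apply b ⟨i, hi⟩, ← this, ← mul_assoc, inv_mul_cancel₀ hν, one_mul]
      · rw [not_ne_iff] at hi; subst hi
        simp [ext0_self]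
    have e2 := congrArg (· ᵥ* g.1) e
    simp only [vecMul_vecMul, inv_mul_val, vecMul_one, add_vecMul, smul_vecMul, hgf] at e2
    have e3 := congrFun e2 j
    simp only [Pi.add_apply, Pi.smul_apply, smul_eq_mul, Pi.single_eq_of_ne hjr, mul_zero, add_zero] at e3
    rw [e3, ← mul_assoc, mul_inv_cancel₀ hν, one_mul]
  · have hP : ρ g * proj (ρ.comp (transC F l)) (pairChar ψ w) * ρ g⁻¹ = proj (ρ.comp (transC F l)) (pairChar ψ w) :=
      conj_proj _ σ (fun a => rep_conj ρ g (by
        rw [transC_apply, transC_apply, conj_tau' g (ext0_perp a), hge,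
          tau_smul μ (by rw [dotProduct_single, hl1, zero_mul])]
        simp only [σ, Equiv.coe_fn_mk, hsmul, restrict_ext0 (hl1 a)])) _ _ fun a => by
          rw [AddChar.map_neg_eq_inv, AddChar.map_neg_eq_inv, pairChar_apply, pairChar_apply]
          simp only [σ, Equiv.coe_fn_mk, hsmul, restrict_ext0 (hl1 a)]
          rw [smul_dotProduct, ← dotProduct_mulVec, hgwi, dotProduct_smul, smul_smul, mul_inv_cancel₀ hμ, one_smul]
    have hQ : ρ g * proj (ρ.comp (transA F r)) (pairChar ψ b) * ρ g⁻¹ =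
        proj (ρ.comp (transA F r)) (pairChar ψ fun i => ν * (ext0 b ᵥ* (g⁻¹).1) i.val) :=
      conj_proj _ τ (fun v => rep_conj ρ g (by
        have hfu : (Pi.single r 1 : ι → F) ⬝ᵥ ext0 v = 0 := by rw [dotProduct_comm, ext0_perp]
        rw [transA_apply, transA_apply, conj_tau' g hfu, hgfi]
        simp only [τ, Equiv.coe_fn_mk, hsmul, restrict_ext0 (hr1 v)]
        rw [tau_smul ν⁻¹ (by rw [single_dotProduct, hr1, mul_zero])])) _ _ fun v => by
          rw [AddChar.map_neg_eq_inv, AddChar.map_neg_eq_inv]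
          congr 1
          rw [pairChar_apply ψ b v]
          show ψ (τ v ⬝ᵥ _) = ψ _
          congr 1
          rw [← ext0_dot (τ v) (fun i => ν * (ext0 b ᵥ* (g⁻¹).1) i)]
          simp only [τ, Equiv.coe_fn_mk, hsmul, restrict_ext0 (hr1 v)]
          rw [show (fun i => ν * (ext0 b ᵥ* (g⁻¹).1) i) = ν • (ext0 b ᵥ* (g⁻¹).1) from rfl, smul_dotProduct,
            dotProduct_smul, smul_smul, inv_mul_cancel₀ hν, one_smul, dotProduct_comm, ← dotProduct_mulVec,
            inv_mulVec, dotProduct_comm]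
    rw [← hQ]
    conv_rhs => lhs; rw [← hP]
    simp only [mul_assoc]
    rw [← mul_assoc (ρ g⁻¹) (ρ g), ← map_mul, inv_mul_cancel, map_one, one_mul]

variable [FiniteDimensional ℂ V]

/-- If all non-principal characters occur once, the fixed space is large. -/
theorem fixed_space_large (ρ : Representation ℂ G V) (hι : 3 ≤ Fintype.card ι)
    (hq : Generic (Fintype.card ι) (Fintype.card F)) {l r : ι} (hlr : l ≠ r)
    (hC : ∀ θ, θ ≠ 1 → LinearMap.trace ℂ V (proj (ρ.comp (transC F l)) θ) = 1)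
    (hA : ∀ θ, θ ≠ 1 → LinearMap.trace ℂ V (proj (ρ.comp (transA F r)) θ) = 1) {d₀ : ℕ}
    (hd : LinearMap.trace ℂ V (proj (ρ.comp (transC F l)) 1) = d₀) :
    Fintype.card F ^ (Fintype.card ι - 2) ≤ d₀ + 1 := by
  classical
  obtain ⟨ψ, hψ⟩ : ∃ ψ : AddChar F ℂ, ψ ≠ 1 := by
    have : Nontrivial (AddChar F ℂ) := by
      rw [← Fintype.one_lt_card_iff_nontrivial, AddChar.card_eq]
      exact Fintype.one_lt_card
    exact exists_ne 1
  set P := fun w : {i // i ≠ l} → F => proj (ρ.comp (transC F l)) (pairChar ψ w) with hPdef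
  set Q := fun b : {i // i ≠ r} → F => proj (ρ.comp (transA F r)) (pairChar ψ b) with hQdef
  have hbij : ∀ m : ι, Function.Bijective
      (pairChar ψ : ({i // i ≠ m} → F) → AddChar ({i // i ≠ m} → F) ℂ) := fun m =>
    (Fintype.bijective_iff_injective_and_card _).2 ⟨pairChar_injective hψ, AddChar.card_eq.symm⟩
  have hPsum : ∑ w, P w = 1 := ((hbij l).sum_comp _).trans (sum_proj _)
  have hQsum : ∑ b, Q b = 1 := ((hbij r).sum_comp _).trans (sum_proj _)
  have hP1 : ∀ w, w ≠ 0 → LinearMap.trace ℂ V (P w) = 1 := fun w hw => hC _ fun e =>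
    hw (pairChar_injective hψ (e.trans (pairChar_zero ψ).symm))
  have hQ1 : ∀ b, b ≠ 0 → LinearMap.trace ℂ V (Q b) = 1 := fun b hb => hA _ fun e =>
    hb (pairChar_injective hψ (e.trans (pairChar_zero ψ).symm))
  have hnat : ∀ w b, Commute (P w) (Q b) → ∃ k : ℕ, LinearMap.trace ℂ V (P w * Q b) = k := fun w b h =>
    exists_nat_trace (IsIdempotentElem.mul_of_commute h (proj_mul_self _ _) (proj_mul_self _ _))
  have hcom1 : ∀ w, w ⟨r, hlr.symm⟩ = 0 → ∀ b, Commute (P w) (Q b) := fun w hw b =>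
    commute_proj_proj _ _ _ _ fun v => commute_transA ρ hlr ψ hw v
  have hzero : ∀ w, w ≠ 0 → w ⟨r, hlr.symm⟩ = 0 → ∀ b, b ≠ 0 → b ⟨l, hlr⟩ = 0 →
      LinearMap.trace ℂ V (P w * Q b) = 0 := by
    intro w hw hwr b hb hbl
    choose k hk using fun b' => hnat w b' (hcom1 w hwr b')
    obtain ⟨b', hne, A, B, hBA, hconj⟩ := exists_conj_pair ρ hι hq hlr ψ hwr hw hbl hb
    have he : k b' = k b := by
      refine Nat.cast_injective (R := ℂ) ?_
      rw [← hk, ← hk, ← hconj, LinearMap.trace_mul_comm, ← mul_assoc, hBA, one_mul]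
    have hs : ∑ b', k b' = 1 := by
      refine Nat.cast_injective (R := ℂ) ?_
      rw [Nat.cast_sum, Finset.sum_congr rfl fun b' _ => (hk b').symm, ← map_sum, ← Finset.mul_sum, hQsum, mul_one,
        hP1 w hw, Nat.cast_one]
    have h2 : ∑ x ∈ ({b, b'} : Finset _), k x ≤ ∑ x, k x :=
      Finset.sum_le_sum_of_subset (Finset.subset_univ _)
    rw [Finset.sum_pair hne.symm, he, hs] at h2
    rw [hk, show k b = 0 by omega, Nat.cast_zero]
  have hone : ∀ b, b ≠ 0 → b ⟨l, hlr⟩ = 0 → LinearMap.trace ℂ V (P 0 * Q b) = 1 := by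
    intro b hb hbl
    have e : LinearMap.trace ℂ V (Q b) = ∑ w, LinearMap.trace ℂ V (P w * Q b) := by
      conv_lhs => rw [← one_mul (Q b), ← hPsum, Finset.sum_mul]
      exact map_sum _ _ _
    rw [← hQ1 b hb, e]
    symm
    refine Finset.sum_eq_single (0 : {i // i ≠ l} → F) (fun w _ hw => ?_)
      (fun h => absurd (Finset.mem_univ _) h)
    by_cases hwr : w ⟨r, hlr.symm⟩ = 0
    · exact hzero w hw hwr b hb hbl
    · rw [show P w * Q b = 0 from proj_mul_proj_eq_zero ρ hlr hψ hwr hbl, map_zero]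
  choose k hk using fun b => hnat 0 b (hcom1 0 rfl b)
  have htot : ∑ b, k b = d₀ := by
    refine Nat.cast_injective (R := ℂ) ?_
    rw [Nat.cast_sum, Finset.sum_congr rfl fun b _ => (hk b).symm, ← map_sum, ← Finset.mul_sum, hQsum, mul_one, ← hd]
    simp only [hPdef, pairChar_zero]
  set S : Finset ({i // i ≠ r} → F) := Finset.univ.filter fun b => b ⟨l, hlr⟩ = 0 with hS
  have hS1 : ∑ b ∈ S.erase 0, k b = (S.erase 0).card := by
    rw [Finset.card_eq_sum_ones]
    refine Finset.sum_congr rfl fun b hb => ?_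
    obtain ⟨h1, h2⟩ := Finset.mem_erase.1 hb
    exact Nat.cast_injective (R := ℂ) (by rw [← hk, hone b h1 (Finset.mem_filter.1 h2).2, Nat.cast_one])
  have hSc : S.card = Fintype.card F ^ (Fintype.card ι - 2) := by
    rw [hS, ← Fintype.card_subtype]
    have e : Fintype.card {x : {i // i ≠ r} // x ≠ ⟨l, hlr⟩} = Fintype.card ι - 2 := by
      rw [Fintype.card_subtype_compl, Fintype.card_subtype_eq, Fintype.card_subtype_compl, Fintype.card_subtype_eq]
      omega
    rw [← e, ← Fintype.card_fun]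
    refine Fintype.card_congr ⟨fun b x => b.1 x.1,
      fun f => ⟨fun i => if h : i ≠ ⟨l, hlr⟩ then f ⟨i, h⟩ else 0, by simp⟩, fun b => Subtype.ext (funext fun i => ?_),
      fun f => funext fun x => by simp [x.2]⟩
    by_cases h : i ≠ ⟨l, hlr⟩
    · simp [h]
    · rw [not_ne_iff] at h; subst h
      simp [b.2]
  have hle := Finset.sum_le_sum_of_subset (f := k) (Finset.subset_univ (S.erase 0))
  rw [hS1, htot, Finset.card_erase_of_mem (by simp [hS]), hSc] at hle
  omega

end Cfsg.Lib.Linear.MinDegree
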