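import Cfsg.Agent.Lib.Linear.MinDegree.Middle
import Cfsg.Agent.Lib.Char.Linear

/-!
# The inductive step for the minimal degree of `SL_n(q)`
-/

set_option autoImplicit false

namespace Cfsg.Lib.Linear.MinDegree

open Matrix Cfsg Cfsg.Lib.Linear Cfsg.Lib.Linear.MinIndex Cfsg.Lib.Linear.CrossChar Cfsg.Lib.Linear.AutPSL Cfsg.Lib.Char
open Cfsg.Lib.TwoDim
open scoped MatrixGroups ComplexConjugate

universe u v

/-- The sum `1 + q + ... + q ^ (k - 1)`. -/
def geo (q : ℕ) : ℕ → ℕ
  | 0 => 0
  | k + 1 => q * geo q k + 1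

theorem geo_succ' (q k : ℕ) : geo q (k + 1) = q ^ k + geo q k := by
  induction k with
  | zero => simp [geo]
  | succ k ih =>
    calc geo q (k + 1 + 1) = q * geo q (k + 1) + 1 := rfl
      _ = q * (q ^ k + geo q k) + 1 := by rw [ih]
      _ = q ^ (k + 1) + (q * geo q k + 1) := by ring

theorem geo_mul (q k : ℕ) (hq : 1 ≤ q) : (q - 1) * geo q k + 1 = q ^ k := by
  induction k with
  | zero => simp [geo]
  | succ k ih =>
    rw [geo_succ', Nat.mul_add, add_assoc, ih, pow_succ]
    obtain ⟨r, rfl⟩ : ∃ r, q = r + 1 := ⟨q - 1, by omega⟩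
    simp only [Nat.add_sub_cancel]
    ring

/-- The smallest degree `(q ^ n - q) / (q - 1)`. -/
def tgt (q n : ℕ) : ℕ := q * geo q (n - 1)

theorem tgt_eq {q n : ℕ} (hq : 2 ≤ q) (hn : 1 ≤ n) : (q ^ n - q) / (q - 1) = tgt q n := by
  obtain ⟨k, rfl⟩ : ∃ k, n = k + 1 := ⟨n - 1, by omega⟩
  rw [tgt, Nat.add_sub_cancel]
  refine Nat.div_eq_of_eq_mul_left (by omega) ?_
  rw [pow_succ, ← geo_mul q k (by omega)]
  rw [Nat.sub_eq_iff_eq_add (Nat.le_mul_of_pos_left _ (by omega))]
  ring

theorem geo_eq {q n : ℕ} (hn : 1 ≤ n) : geo q n = tgt q n + 1 := by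
  obtain ⟨k, rfl⟩ : ∃ k, n = k + 1 := ⟨n - 1, by omega⟩
  rfl

variable {F : Type u} [Field F] [Fintype F] [DecidableEq F] {n : ℕ}

local notation "G" => SpecialLinearGroup (Fin n) F
local notation "q" => Fintype.card F

theorem card_NZ : Fintype.card (VectorChar.NZ F n) = q ^ n - 1 := by
  rw [show Fintype.card (VectorChar.NZ F n) = Fintype.card {v : Fin n → F // v ≠ 0} from rfl,
    Fintype.card_subtype_compl, Fintype.card_fun, Fintype.card_fin, Fintype.card_subtype_eq]

variable [hn : Fact (3 ≤ n)]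

/-- A representation with a vector fixed by the stabiliser of a vector has degree at least the bound. -/
theorem tgt_le_of_stab_fixed {V : Type v} [AddCommGroup V] [Module ℂ V] [FiniteDimensional ℂ V]
    (ρ : Representation ℂ G V) (hχ : IsIrrCharacter G ρ.character) (hne : ρ.character ≠ fun _ => 1)
    {w : V} (hw : w ≠ 0)
    (hfix : ∀ g : G, g.1 *ᵥ Pi.single (VectorChar.i0 : Fin n) 1 = Pi.single VectorChar.i0 1 → ρ g w = w)
    {d : ℕ} (hd : ρ.character 1 = d) : tgt q n ≤ d := by
  classical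
  obtain ⟨ψ, hψ, -, hsum, hdeg⟩ := VectorChar.decomposition_degree (F := F) (n := n)
  by_contra hlt
  have hψne : ∀ θ, ρ.character ≠ ψ θ := by
    intro θ e
    refine hlt ?_
    have h1 := hdeg θ
    rw [← e, hd, card_NZ, show q ^ n - 1 = (q - 1) * geo q n by
      have := geo_mul q n Fintype.card_pos; omega, Nat.cast_mul, mul_div_cancel_left₀ _ VectorChar.q_sub_one_ne] at h1
    have h3 := @geo_eq q n (by have := hn.out; omega)
    split_ifs at h1
    · have h2 : ((d + 1 : ℕ) : ℂ) = (geo q n : ℂ) := by push_cast; linear_combination h1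
      have h4 : d + 1 = geo q n := by exact_mod_cast h2
      omega
    · rw [sub_zero] at h1
      have h4 : d = geo q n := by exact_mod_cast h1
      omega
  have hzero : classInner ρ.character (fun g => (VectorChar.eig g 1 : ℂ)) = 0 := by
    have e : (fun g : G => (VectorChar.eig g 1 : ℂ)) = (fun _ => (1 : ℂ)) + ∑ θ, ψ θ :=
      funext fun g => by simp [hsum g]
    rw [e, classInner_add_right, classInner_sum_right, classInner_irr_ne hχ isIrrCharacter_one hne, zero_add,
      Finset.sum_eq_zero fun θ _ => classInner_irr_ne hχ (hψ θ) (hψne θ)]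
  set H := MulAction.stabilizer G (VectorChar.base : VectorChar.NZ F n)
  have hH := sum_char_eq_finrank_invariants (ρ.comp H.subtype)
  have hk : Module.finrank ℂ (Representation.invariants (ρ.comp H.subtype)) ≠ 0 := by
    intro h0
    have hbot : Representation.invariants (ρ.comp H.subtype) = ⊥ := Submodule.finrank_eq_zero.1 h0
    have hmem : w ∈ Representation.invariants (ρ.comp H.subtype) := fun h =>
      hfix h.1 (congrArg (fun v : VectorChar.NZ F n => v.1) (MulAction.mem_stabilizer_iff.1 h.2))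
    rw [hbot, Submodule.mem_bot] at hmem
    exact hw hmem
  have key : ∑ g : G, ρ.character g * (VectorChar.eig g 1 : ℂ) =
      (Fintype.card (VectorChar.NZ F n) : ℂ) * ∑ h : H, (Representation.character (ρ.comp H.subtype)) h := by
    have e1 : ∀ g : G, (VectorChar.eig g 1 : ℂ) = ∑ v : VectorChar.NZ F n, if g • v = v then 1 else 0 := fun g => by
      rw [VectorChar.eig, Finset.sum_boole]
      refine congrArg (fun s : Finset (VectorChar.NZ F n) => (s.card : ℂ)) (Finset.filter_congr fun v _ => ?_)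
      rw [Units.val_one, one_smul]
      exact ⟨fun h => Subtype.ext h, congrArg Subtype.val⟩
    simp only [e1, Finset.mul_sum, mul_ite, mul_one, mul_zero]
    rw [Finset.sum_comm, Finset.sum_congr rfl fun v _ => ?_, Finset.sum_const, Finset.card_univ, nsmul_eq_mul,
      ← Finset.mul_sum]
    obtain ⟨k, hk⟩ := VectorChar.transitive v
    rw [← Finset.sum_filter]
    refine (Finset.sum_bij' (fun (h : H) _ => k * h.1 * k⁻¹)
      (fun g hg => ⟨k⁻¹ * g * k, MulAction.mem_stabilizer_iff.2 (by
        rw [mul_smul, mul_smul, hk, (Finset.mem_filter.1 hg).2, ← hk, inv_smul_smul])⟩)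
      (fun h _ => Finset.mem_filter.2 ⟨Finset.mem_univ _, by
        rw [← hk, mul_smul, mul_smul, inv_smul_smul, MulAction.mem_stabilizer_iff.1 h.2]⟩)
      (fun g _ => Finset.mem_univ _) (fun h _ => Subtype.ext (by group)) (fun g _ => by group) fun h _ => ?_).symm
    exact (Representation.char_conj ρ h.1 k).symm
  simp only [classInner, Complex.conj_natCast, key, mul_eq_zero, inv_eq_zero] at hzero
  rcases hzero with h | h | h
  · exact card_cast_ne_zero h
  · have : Nonempty (VectorChar.NZ F n) := ⟨VectorChar.base⟩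
    exact Fintype.card_ne_zero (Nat.cast_eq_zero.1 h)
  · rw [h, mul_zero, eq_comm, Nat.cast_eq_zero] at hH
    exact hk hH

/-- Reindexing of the special linear group. -/
def slReindex {ι κ : Type} [Fintype ι] [DecidableEq ι] [Fintype κ] [DecidableEq κ] (e : ι ≃ κ) :
    SpecialLinearGroup ι F ≃* SpecialLinearGroup κ F where
  toFun g := ⟨g.1.submatrix e.symm e.symm, by rw [det_submatrix_equiv_self, g.2]⟩
  invFun g := ⟨g.1.submatrix e e, by rw [det_submatrix_equiv_self, g.2]⟩
  left_inv g := Subtype.ext (by simp)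
  right_inv g := Subtype.ext (by simp)
  map_mul' g h := Subtype.ext (submatrix_mul_equiv g.1 h.1 _ e.symm _).symm

set_option maxHeartbeats 800000 in
/-- The structure of a representation of degree below the bound. -/
theorem step {d : ℕ} (hdeg : IsDeg G d) (hlt : d < tgt q n) :
    ∃ d₀ : ℕ, d + 1 = q ^ (n - 1) + d₀ ∧
      (d : ℤ) ∣ (((q ^ n - 1) * geo q (n - 1) : ℕ) : ℤ) * ((d₀ : ℤ) - 1) ∧
      (d₀ = 0 ∨ ∃ k, IsDeg (SpecialLinearGroup (Fin (n - 1)) F) k ∧
        (k = d₀ ∨ ∃ k', IsDeg (SpecialLinearGroup (Fin (n - 1)) F) k' ∧ k + k' ≤ d₀)) ∧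
      (Generic n q → q ^ (n - 2) ≤ d₀ + 1) := by
  classical
  obtain ⟨χ, hirr, hne, hd⟩ := hdeg
  obtain ⟨m, ρ, hρ, rfl⟩ := id hirr
  have h3 : 3 ≤ Fintype.card (Fin n) := by rw [Fintype.card_fin]; exact hn.out
  set l : Fin n := VectorChar.i0 with hl
  set r : Fin n := VectorChar.i1 with hr
  have hlr : l ≠ r := by simp [hl, hr, VectorChar.i0, VectorChar.i1]
  have hW : ∀ m : Fin n, Fintype.card ({i // i ≠ m} → F) = q ^ (n - 1) := fun m => by
    rw [Fintype.card_fun, Fintype.card_subtype_compl, Fintype.card_fin, Fintype.card_subtype_eq]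
  obtain ⟨a₀, ha₀⟩ : ∃ a : {i // i ≠ l} → F, a ≠ 0 := ⟨fun _ => 1, fun h => one_ne_zero (congrFun h ⟨r, hlr.symm⟩)⟩
  set t : G := tau (Pi.single l 1) (ext0 a₀) with ht
  have hsingle : ∀ m : Fin n, (Pi.single m 1 : Fin n → F) ≠ 0 := fun m => Pi.single_ne_zero_iff.2 one_ne_zero
  have hval : ∀ {v a : Fin n → F}, v ≠ 0 → a ≠ 0 → a ⬝ᵥ v = 0 → ρ.character (tau v a) = ρ.character t := by
    intro v a hv ha h
    obtain ⟨g, hg⟩ := isConj_iff.1 (isConj_tau h3 (hsingle l) (ext0_ne_zero ha₀) (ext0_perp a₀) hv ha h)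
    rw [← hg]
    exact Representation.char_conj ρ t g
  have htr : ∀ (m : Fin n) (T : Multiplicative ({i // i ≠ m} → F) →* G)
      (θ : AddChar ({i // i ≠ m} → F) ℂ), (∀ a, a ≠ 0 → ρ.character (T (Multiplicative.ofAdd a)) = ρ.character t) →
      LinearMap.trace ℂ _ (proj (ρ.comp T) θ) = if θ = 1
        then ((d : ℂ) + ((q : ℂ) ^ (n - 1) - 1) * ρ.character t) / (q : ℂ) ^ (n - 1)
        else ((d : ℂ) - ρ.character t) / (q : ℂ) ^ (n - 1) := by
    intro m T θ hT
    rw [trace_proj, hW, Nat.cast_pow, inv_mul_eq_div]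
    have e : ∀ a, θ (-a) * LinearMap.trace ℂ _ ((ρ.comp T) (Multiplicative.ofAdd a)) =
        θ (-a) * ρ.character t + if a = 0 then (d : ℂ) - ρ.character t else 0 := by
      intro a
      by_cases h : a = 0
      · subst h
        rw [neg_zero, AddChar.map_zero_eq_one, if_pos rfl, one_mul, one_mul, ofAdd_zero, map_one, add_sub_cancel, ← hd]
        simp [Representation.character]
      · rw [if_neg h, add_zero, ← hT a h]
        rfl
    rw [Finset.sum_congr rfl fun a _ => e a, Finset.sum_add_distrib, Finset.sum_ite_eq', if_pos (Finset.mem_univ _),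
      ← Finset.sum_mul, show ∑ a, θ (-a) = ∑ a, θ a from Equiv.sum_comp (Equiv.neg _) fun a => θ a]
    by_cases hθ : θ = 1
    · subst hθ
      rw [if_pos rfl]
      simp only [AddChar.one_apply, Finset.sum_const, Finset.card_univ, hW, nsmul_eq_mul, mul_one, Nat.cast_pow]
      ring
    · rw [if_neg hθ, AddChar.sum_eq_zero_of_ne_one hθ, zero_mul, zero_add]
  have hTC : ∀ a, a ≠ 0 → ρ.character (transC F l (Multiplicative.ofAdd a)) = ρ.character t := fun a ha =>
    hval (hsingle l) (ext0_ne_zero ha) (ext0_perp a)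
  have hTA : ∀ a, a ≠ 0 → ρ.character (transA F r (Multiplicative.ofAdd a)) = ρ.character t := fun a ha =>
    hval (ext0_ne_zero ha) (hsingle r) (by rw [dotProduct_comm, ext0_perp])
  obtain ⟨θ₁, hθ₁⟩ : ∃ θ : AddChar ({i // i ≠ l} → F) ℂ, θ ≠ 1 := by
    have : Nontrivial (AddChar ({i // i ≠ l} → F) ℂ) := by
      rw [← Fintype.one_lt_card_iff_nontrivial, AddChar.card_eq, hW]
      exact Nat.one_lt_pow (by have := hn.out; omega) Fintype.one_lt_card
    exact exists_ne 1
  obtain ⟨M, hM⟩ := exists_nat_trace (proj_mul_self (ρ.comp (transC F l)) θ₁)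
  obtain ⟨d₀, hd₀⟩ := exists_nat_trace (proj_mul_self (ρ.comp (transC F l)) 1)
  have eM : ((d : ℂ) - ρ.character t) / (q : ℂ) ^ (n - 1) = M := by
    rw [← hM, htr l _ θ₁ hTC, if_neg hθ₁]
  have e0 : ((d : ℂ) + ((q : ℂ) ^ (n - 1) - 1) * ρ.character t) / (q : ℂ) ^ (n - 1) = d₀ := by
    rw [← hd₀, htr l _ 1 hTC, if_pos rfl]
  have hQ0 : (q : ℂ) ^ (n - 1) ≠ 0 := pow_ne_zero _ (Nat.cast_ne_zero.2 Fintype.card_ne_zero)
  rw [div_eq_iff hQ0] at eM e0
  have hx : ρ.character t = (d₀ : ℂ) - M := by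
    refine mul_left_cancel₀ hQ0 ?_
    linear_combination e0 - eM
  have hdeq : d + M = d₀ + q ^ (n - 1) * M := by
    refine Nat.cast_injective (R := ℂ) ?_
    push_cast
    linear_combination eM + hx
  have hM1 : M ≠ 0 := by
    intro h0
    have ht1 : ρ.character t = ρ.character 1 := by
      rw [h0, mul_zero, add_zero, add_zero] at hdeq
      rw [hx, hd, hdeq, h0, Nat.cast_zero, sub_zero]
    have hker : charKer hirr.isCharacter = ⊤ := by
      rw [eq_top_iff, ← closure_transvection_eq_top, Subgroup.closure_le]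
      rintro _ ⟨i, j, hij, c, rfl⟩
      rw [SetLike.mem_coe, mem_charKer]
      rcases eq_or_ne c 0 with rfl | hc
      · rw [SpecialLinearGroup.transvection_coeff_zero]
      · rw [transvection_eq_tau hij c, hval (hsingle i) (Pi.single_ne_zero_iff.2 hc)
          (by rw [single_dotProduct, Pi.single_eq_of_ne hij.symm, mul_zero]), ht1]
    have hall : ρ.character = fun _ => (d : ℂ) := funext fun g => by
      rw [← hd]
      exact (mem_charKer hirr.isCharacter).1 (hker ▸ Subgroup.mem_top g)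
    have h1 := classInner_irr_ne hirr isIrrCharacter_one hne
    rw [hall, classInner] at h1
    simp only [map_one, mul_one, Finset.sum_const, Finset.card_univ, nsmul_eq_mul, ← Nat.card_eq_fintype_card,
      inv_mul_cancel_left₀ card_cast_ne_zero] at h1
    exact hirr.apply_one_ne_zero (hd.trans h1)
  have hq : 2 ≤ q := Fintype.one_lt_card
  have hgm := geo_mul q (n - 1) (by omega)
  have hM2 : M < 2 := by
    by_contra h
    have h1 : q ^ (n - 1) * M ≥ M + 2 * ((q - 1) * geo q (n - 1)) := by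
      have h2 := Nat.mul_le_mul_left ((q - 1) * geo q (n - 1)) (not_lt.1 h)
      rw [← hgm, add_mul, one_mul]
      omega
    have h2 : tgt q n ≤ 2 * ((q - 1) * geo q (n - 1)) := by
      rw [tgt, ← mul_assoc]
      exact Nat.mul_le_mul_right _ (by omega)
    omega
  obtain rfl : M = 1 := by omega
  refine ⟨d₀, by omega, ?_, ?_, fun hg => ?_⟩
  · have hc : (classFinset t).card = (q ^ n - 1) * geo q (n - 1) := by
      refine Nat.eq_of_mul_eq_mul_right (show 0 < q - 1 by omega) ?_
      rw [card_class_tau h3 (hsingle l) (ext0_ne_zero ha₀) (ext0_perp a₀), Fintype.card_fin, mul_assoc]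
      congr 1
      rw [mul_comm (geo q (n - 1))]
      omega
    have hd0' : d ≠ 0 := fun h => hirr.apply_one_ne_zero (by rw [hd, h, Nat.cast_zero])
    have h1 := hirr.isIntegral_class t
    rw [hc, hx, hd] at h1
    obtain ⟨z, hz⟩ := @exists_int_of_isIntegral_rat
      ((((q ^ n - 1) * geo q (n - 1) : ℕ) : ℚ) * ((d₀ : ℚ) - 1) / d) (by
        convert h1 using 1
        simp only [Rat.cast_div, Rat.cast_mul, Rat.cast_sub, Rat.cast_natCast, Rat.cast_one, Nat.cast_one])
    refine ⟨z, ?_⟩
    rw [div_eq_iff (Nat.cast_ne_zero.2 hd0')] at hz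
    refine Int.cast_injective (α := ℚ) ?_
    simp only [Int.cast_mul, Int.cast_sub, Int.cast_natCast, Int.cast_one]
    rw [hz, mul_comm]
  · have hfin : Module.finrank ℂ (transRep ρ l).invariants = d₀ := by
      refine Nat.cast_injective (R := ℂ) ?_
      rw [← hd₀]
      exact ((isProj_proj_zero (transRep ρ l)).trace).symm
    by_cases hinv : (fixRep ρ l).invariants = ⊥
    · have h1 : classInner (fixRep ρ l).character (fun _ => 1) = 0 := by
        rw [classInner_one_right, sum_char_eq_finrank_invariants, hinv, finrank_bot, Nat.cast_zero]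
      have h2 : (fixRep ρ l).character 1 = d₀ := by rw [Representation.char_one, hfin]
      have e : {i : Fin n // i ≠ l} ≃ Fin (n - 1) := Fintype.equivFinOfCardEq (by
        rw [Fintype.card_subtype_compl, Fintype.card_fin, Fintype.card_subtype_eq])
      rcases degree_split (isCharacter_character (fixRep ρ l)) h2 h1 with h | ⟨k, hk, hk'⟩
      · exact Or.inl h
      · refine Or.inr ⟨k, hk.of_mulEquiv (slReindex e), hk'.imp id ?_⟩
        rintro ⟨k', h, h'⟩
        exact ⟨k', h.of_mulEquiv (slReindex e), h'⟩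
    · obtain ⟨w, hw, hfix⟩ := exists_stab_fixed ρ l hinv
      exact absurd (tgt_le_of_stab_fixed ρ hirr hne hw hfix hd) (not_le.2 hlt)
  · have hsame : ((d : ℂ) - ρ.character t) / (q : ℂ) ^ (n - 1) = 1 := by
      rw [div_eq_iff hQ0, eM, Nat.cast_one]
    have := fixed_space_large ρ h3 (by rwa [Fintype.card_fin]) hlr
      (fun θ hθ => by rw [htr l _ θ hTC, if_neg hθ, hsame]) (fun θ hθ => by rw [htr r _ θ hTA, if_neg hθ, hsame]) hd₀
    rwa [Fintype.card_fin] at this

end Cfsg.Lib.Linear.MinDegree
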